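import Cfsg.Agent.DER.Ind

/-! Project DER: the abelian normal case and the class case. -/

set_option autoImplicit false

namespace Cfsg.Agent.DER

open Subgroup MulAction

theorem Ab_num {c f s : ℕ} (hc : 2 ≤ c) (hf : 3 ≤ f) (h : 2 * s ≤ c * (f - 1)) : (s + 1) ^ 2 ≤ f ^ c := by
  obtain ⟨g, rfl⟩ : ∃ g, f = g + 1 := ⟨f - 1, by omega⟩
  have hg : 2 ≤ g := by omega
  have key : ∀ c, 2 ≤ c → (c * g + 2) ^ 2 ≤ 4 * (g + 1) ^ c := by
    intro c hc
    induction c, hc using Nat.le_induction with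
    | base => exact le_of_eq (by ring)
    | succ c hc ih =>
      have h1 : g ≤ c * g + 2 := by nlinarith
      have h2 : 3 ≤ c * g + 2 := by nlinarith
      have h3 : 2 * (c * g + 2) + g ≤ (c * g + 2) ^ 2 := by nlinarith
      calc ((c + 1) * g + 2) ^ 2 = (c * g + 2) ^ 2 + g * (2 * (c * g + 2) + g) := by ring
        _ ≤ (c * g + 2) ^ 2 + g * (c * g + 2) ^ 2 := by gcongr
        _ = (c * g + 2) ^ 2 * (g + 1) := by ring
        _ ≤ 4 * (g + 1) ^ c * (g + 1) := by gcongr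
        _ = 4 * (g + 1) ^ (c + 1) := by ring
  rw [Nat.add_sub_cancel] at h
  have h1 : (2 * s + 2) ^ 2 ≤ (c * g + 2) ^ 2 := by gcongr
  have h2 := key c hc
  have h3 : 4 * (s + 1) ^ 2 = (2 * s + 2) ^ 2 := by ring
  omega

variable {H Q : Type*} [Group H] [Finite H] [CommGroup Q] [Finite Q] [MulDistribMulAction H Q]

/-- an orbit covered by subgroups of the same order -/
theorem Ab_un {ι : Type*} {L U : Subgroup H} (hL : Fpf Q L) (hU : U ≤ L) {v : Q} (hv : v ≠ 1) (T : Finset ι)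
    (A : ι → Subgroup Q) {f : ℕ} (hA : ∀ i ∈ T, Nat.card (A i) = f) (h : ∀ g : H, ∃ i ∈ T, g • v ∈ A i) :
    L.index * (stabilizer H v).relIndex U ≤ T.card * (f - 1) := by
  classical
  have h1 := inv_ge hU (hL.stab_le hv)
    (T := (T.biUnion fun i => (Set.toFinite ((A i : Set Q) \ {1})).toFinset : Finset Q)) fun g => by
      obtain ⟨i, hi, h2⟩ := h g
      rw [Finset.mem_coe, Finset.mem_biUnion]
      refine ⟨i, hi, (Set.Finite.mem_toFinset _).2 ⟨h2, fun e => hv ?_⟩⟩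
      rwa [Set.mem_singleton_iff, smul_eq_iff_eq_inv_smul, smul_one] at e
  rw [Set.ncard_coe_finset] at h1
  refine h1.trans (Finset.card_biUnion_le_card_mul _ _ _ fun i hi => ?_)
  rw [← Set.ncard_eq_toFinset_card]
  have h5 := Set.ncard_sdiff_singleton_add_one (s := (A i : Set Q)) (a := 1) (A i).one_mem
  have h6 : Nat.card (A i) = (A i : Set Q).ncard := rfl
  have := hA i hi
  omega

variable [FaithfulSMul H Q]

theorem ab {L B : Subgroup H} (hL : Fpf Q L) [B.Normal] (hBL : B ≤ L)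
    (hB : ∀ a ∈ B, ∀ b ∈ B, a * b = b * a) (hs : ¬ SR Q B) :
    (L.index + 1) ^ 2 ≤ Nat.card Q := by
  classical
  have := Fintype.ofFinite H
  obtain ⟨Y, hY, hY0⟩ := exists_MS hs
  by_cases h1 : ∀ h : H, cn h Y = Y
  · refine red hL hY.ne (fun e => hY0 (eq_bot_iff.2 fun y hy => mem_bot.2 ?_)) fun g v hv => ?_
    · exact eq_of_smul_eq_smul (α := Q) fun v => by
        rw [one_smul]; exact (e ▸ mem_top v : v ∈ Fx Q Y) y hy
    · rw [← h1 g]; exact (smul_mem_Fx g).2 hv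
  obtain ⟨k, hk⟩ := not_forall.1 h1
  obtain ⟨b, hb, hbY⟩ : ∃ b ∈ B, b ∉ Y := by
    by_contra h2
    have h3 : Y = B := le_antisymm hY.le fun b hb => by_contra fun h => h2 ⟨b, hb, h⟩
    refine hk ?_
    rw [h3]
    ext x
    rw [mem_cn]
    exact ‹B.Normal›.mem_comm_iff.trans (by rw [← mul_assoc, mul_inv_cancel, one_mul])
  obtain ⟨v, hv, hv1⟩ := ((Fx Q Y).bot_or_exists_ne_one).resolve_left hY.ne
  let T : Finset (Subgroup H) := Finset.univ.image fun h : H => cn h Y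
  have hT : ∀ h : H, cn h Y ∈ T := fun h => Finset.mem_image_of_mem _ (Finset.mem_univ h)
  have a1 : Nat.card (Fx Q Y) ^ T.card ≤ Nat.card Q := ind le_rfl hB T (m := Nat.card Y) fun Z hZ => by
    obtain ⟨h, -, rfl⟩ := Finset.mem_image.1 hZ
    exact ⟨(hY.cn h).le, hY.cn h, card_cn h Y, card_Fx_cn h Y⟩
  have a2 := Ab_un hL hBL hv1 T (Fx Q) (f := Nat.card (Fx Q Y))
    (fun Z hZ => by
      obtain ⟨h, -, rfl⟩ := Finset.mem_image.1 hZ
      exact card_Fx_cn h Y)
    fun g => ⟨_, hT g, (smul_mem_Fx g).2 hv⟩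
  rw [hY.relIndex hv hv1] at a2
  have a3 : 2 ≤ Y.relIndex B := by
    have e1 : Y.relIndex B ≠ 0 := index_ne_zero_of_finite
    have e2 : Y.relIndex B ≠ 1 := fun e => hbY (relIndex_eq_one.1 e hb)
    omega
  have a4 : 2 ≤ T.card := Finset.one_lt_card.2 ⟨_, hT k, _, hT 1, by rwa [cn_one]⟩
  have a5 : 3 ≤ Nat.card (Fx Q Y) := by
    refine (Set.two_lt_ncard_iff (s := (Fx Q Y : Set Q))).2 ⟨1, v, b • v, one_mem _, hv, fun y hy => ?_, hv1.symm,
      fun e => hv1 ?_, fun e => hbY (hY.max v hv hv1 b hb e.symm)⟩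
    · rw [← mul_smul, hB y (hY.le hy) b hb, mul_smul, hv y hy]
    · rwa [eq_comm, smul_eq_iff_eq_inv_smul, smul_one] at e
  refine (Ab_num a4 a5 (le_trans ?_ a2)).trans a1
  rw [mul_comm]
  exact Nat.mul_le_mul_left _ a3

theorem cls {L M : Subgroup H} (hL : Fpf Q L) (hML : M ≤ L) (hM : SR Q M) {x : H} (hx : x ≠ 1)
    {v : Q} (hv : v ≠ 1) (e : x • v = v) (hc : ∀ h : H, h * x * h⁻¹ * x⁻¹ ∈ M) :
    (L.index + 1) ^ 2 ≤ Nat.card Q := by
  classical
  have := Fintype.ofFinite M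
  let d : Q →* Q := MonoidHom.mk' (fun u => u⁻¹ * x • u) fun a b => by
    rw [smul_mul', mul_inv, mul_mul_mul_comm]
  have hd : ∀ u, d u = u⁻¹ * x • u := fun _ => rfl
  have hdc : ∀ c : H, c * x = x * c → ∀ u, d (c • u) = c • d u := fun c h u => by
    rw [hd, hd, smul_mul', smul_inv', ← mul_smul, ← mul_smul, h]
  obtain ⟨F, h0, h1, h2⟩ : ∃ F : Subgroup Q, F ≠ ⊥ ∧ Nat.card F ^ 2 ≤ Nat.card Q ∧
      ∀ c : H, c * x = x * c → ∀ u ∈ F, c • u ∈ F := by
    have h3 := d.ker.card_mul_index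
    rw [index_ker] at h3
    rcases le_total (Nat.card d.ker) (Nat.card d.range) with h4 | h4
    · refine ⟨d.ker, fun h => hv (mem_bot.1 (h ▸ ?_)), ?_, fun c h u hu => ?_⟩
      · rw [MonoidHom.mem_ker, hd, e, inv_mul_cancel]
      · rw [← h3, sq]; exact Nat.mul_le_mul_left _ h4
      · rw [MonoidHom.mem_ker] at hu ⊢
        rw [hdc c h, hu, smul_one]
    · refine ⟨d.range, fun h => hx (eq_of_smul_eq_smul (α := Q) fun u => ?_), ?_, ?_⟩
      · have h5 : d u = 1 := mem_bot.1 (h ▸ ⟨u, rfl⟩)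
        rw [one_smul]
        exact (inv_mul_eq_one.1 ((hd u).symm.trans h5)).symm
      · rw [← h3, sq]; exact Nat.mul_le_mul_right _ h4
      · rintro c h _ ⟨u, rfl⟩
        exact ⟨c • u, hdc c h u⟩
  obtain ⟨w, hw, hw1⟩ := F.bot_or_exists_ne_one.resolve_left h0
  let φ : H → M := fun h => ⟨_, hc h⟩
  have a1 := Ab_un hL hML hw1 (Finset.univ : Finset M)
    (fun m => F.map (MulDistribMulAction.toMonoidHom Q (Function.invFun φ m))) (f := Nat.card F)
    (fun m _ => card_map_of_injective (MulAction.injective _)) fun g => by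
      refine ⟨φ g, Finset.mem_univ _, ((Function.invFun φ (φ g))⁻¹ * g) • w, h2 _ ?_ w hw, ?_⟩
      · have h3 := congrArg Subtype.val (Function.invFun_eq (f := φ) ⟨g, rfl⟩)
        generalize Function.invFun φ (φ g) = k at h3
        have h4 : k * x * k⁻¹ = g * x * g⁻¹ := mul_right_cancel h3
        calc k⁻¹ * g * x = k⁻¹ * (g * x * g⁻¹) * g := by group
          _ = x * (k⁻¹ * g) := by rw [← h4]; group
      · rw [MulDistribMulAction.toMonoidHom_apply, mul_smul, smul_inv_smul]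
  have a2 : stabilizer H w ⊓ M = ⊥ := eq_bot_iff.2 fun g hg =>
    mem_bot.2 ((hM g (mem_inf.1 hg).2 w (mem_inf.1 hg).1).resolve_right hw1)
  rw [← inf_relIndex_right, a2, relIndex_bot_left, Finset.card_univ, ← Nat.card_eq_fintype_card, mul_comm] at a1
  have a3 := Nat.le_of_mul_le_mul_left a1 Nat.card_pos
  have a4 : 0 < Nat.card F := Nat.card_pos
  exact le_trans (Nat.pow_le_pow_left (by omega) 2) h1

end Cfsg.Agent.DER
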