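import Cfsg.Agent.DER.Sym
import Cfsg.Agent.DER.Ab

/-! Project DER: the affine lemma. -/

set_option autoImplicit false

namespace Cfsg.Agent.DER

open Subgroup MulAction

section

variable {H Q : Type*} [Group H] [Finite H] [CommGroup Q] [Finite Q] [MulDistribMulAction H Q]
  [FaithfulSMul H Q]

theorem aff33 {l : ℕ} [Fact l.Prime] {L P : Subgroup H} (hL : Fpf Q L) [P.Normal] (hPL : P ≤ L)
    (hp : IsPGroup l P) (hs : ¬ SR Q P) : (L.index + 1) ^ 2 ≤ Nat.card Q := by
  by_contra hn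
  have k : ∀ B : Subgroup H, B ≤ P → B.Normal → (∀ a ∈ B, ∀ b ∈ B, a * b = b * a) → SR Q B :=
    fun B h1 h2 h3 => by_contra fun h4 => hn (ab hL (h1.trans hPL) h3 h4)
  have hs' := hs
  simp only [SR, not_forall, not_or] at hs'
  obtain ⟨x, hx, v, e, h1, h2⟩ := hs'
  have : Nontrivial Q := ⟨v, 1, h2⟩
  obtain ⟨U, z, hU, hUP, hz, hS, hc⟩ := str hp (fun e => h1 (mem_bot.1 (e ▸ hx)))
    fun B h3 h4 h5 => cyc (hp.to_le h3) h5 (k B h3 h4 h5)
  by_cases h3 : SR Q U
  · exact hn (cls hL (hUP.trans hPL) h3 h1 h2 e fun h => hc h x hx)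
  · refine hn (sym hL (hUP.trans hPL) (hp.to_le hUP) hS
      (k _ (zpowers_le.2 (hUP hS.mem)) hz ?_) h3)
    rintro _ ⟨i, rfl⟩ _ ⟨j, rfl⟩
    exact zpow_mul_comm z i j

end

variable {H Q : Type*} [Group H] [Finite H] [CommGroup Q] [Finite Q] [MulDistribMulAction H Q]
  [FaithfulSMul H Q]

theorem aff {L : Subgroup H} [L.Normal] (hL : Fpf Q L) (hs : ¬ SR Q L) :
    (L.index + 1) ^ 2 ≤ Nat.card Q := by
  simp only [SR, not_forall, not_or] at hs
  obtain ⟨x0, hx0, v, e0, h1, h2⟩ := hs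
  have ho : orderOf x0 ≠ 1 := fun e => h1 (orderOf_eq_one_iff.1 e)
  obtain ⟨l, hl, hd⟩ := Nat.exists_prime_and_dvd ho
  have : Fact l.Prime := ⟨hl⟩
  set x := x0 ^ (orderOf x0 / l) with hxd
  have ox : orderOf x = l := orderOf_pow_orderOf_div (orderOf_pos x0).ne' hd
  have hx : x ∈ L := pow_mem hx0 _
  have e : x • v = v := pow_mem (show x0 ∈ stabilizer H v from e0) _
  have h3 : x ≠ 1 := fun e => hl.one_lt.ne (by rw [← ox, e, orderOf_one])
  have hz : IsPGroup l (zpowers (⟨x, hx⟩ : L)) :=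
    IsPGroup.of_card (n := 1) (by rw [Nat.card_zpowers, pow_one, ← ox, ← orderOf_coe])
  obtain ⟨S, hS⟩ := hz.exists_le_sylow
  have hF := Sylow.normalizer_sup_eq_top S
  set P := (S : Subgroup L).map L.subtype with hP
  set N := normalizer (P : Set H) with hN
  have hxP : x ∈ P := ⟨⟨x, hx⟩, hS (mem_zpowers _), rfl⟩
  have hi : (L.subgroupOf N).index = L.index := by
    have := relIndex_sup_right N L
    rw [hF, relIndex_top_right] at this
    exact this.symm
  rw [← hi]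
  refine aff33 (l := l) (P := P.subgroupOf N) (fun g hg w hw => hL g hg w hw)
    (fun g hg => map_subtype_le (S : Subgroup L) (mem_subgroupOf.1 hg)) ((S.isPGroup'.map _).of_equiv
      (subgroupOfEquivOfLe le_normalizer).symm) fun h => ?_
  rcases h ⟨x, le_normalizer hxP⟩ hxP v e with h4 | h4
  exacts [h3 (congrArg Subtype.val h4), h2 h4]

end Cfsg.Agent.DER
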