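import Cfsg.Agent.DER.Defs
import Cfsg.Agent.H5.CHBase
import Cfsg.Agent.S0190

set_option autoImplicit false

namespace Cfsg.Agent.DER

open Subgroup MulAction

namespace Chr

open Cfsg.Agent.H5 Cfsg.Agent.BEND.CHB
open scoped ComplexConjugate Classical

universe u

variable {D : Type u} [Group D] [Fintype D] {H Q L : Subgroup D}

/-- the multiplicity in the permutation character -/
noncomputable def mm (H : Subgroup D) (χ : IrrCharacter D) : ℕ := ee H χ (BEND.CHB.one H)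

/-- the degree -/
noncomputable def dg (Q : Subgroup D) (χ : IrrCharacter D) : ℕ := ∑ lam, ee Q χ lam

theorem ind_eq (H : Subgroup D) (g : D) :
    indFun H (fun _ => 1) g = ∑ χ : IrrCharacter D, (mm H χ : ℂ) * χ.1 g := by
  rw [classFunction_apply_eq_sum (f := indFun H fun _ => 1) (H6.indFun_isClassFunction _ _) g]
  refine Finset.sum_congr rfl fun χ _ => ?_
  rw [H6.classInner_indFun_left _ _ (isClassFunction_of_isIrr χ.2), ← conj_classInner]
  exact congrArg (· * χ.1 g) (by rw [show (fun _ => (1 : ℂ)) = (BEND.CHB.one H).1 from rfl, ee_spec, map_natCast, mm])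

theorem sum_ind (H : Subgroup D) :
    ∑ h : H, indFun H (fun _ => 1) (h : D) = Nat.card H * ((∑ χ : IrrCharacter D, mm H χ * mm H χ : ℕ) : ℂ) := by
  simp only [ind_eq]
  rw [Finset.sum_comm]
  push_cast
  rw [Finset.mul_sum]
  refine Finset.sum_congr rfl fun χ _ => ?_
  have := sum_eq_ee H χ (BEND.CHB.one H)
  simp only [BEND.CHB.one, map_one, mul_one] at this
  rw [← Finset.mul_sum, this, mm, BEND.CHB.one]
  ring

theorem dg_eq (hab : ∀ a b : Q, a * b = b * a) (χ : IrrCharacter D) : χ.1 1 = dg Q χ := by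
  have := res_eq Q χ 1
  simp only [degree_eq_one_of_comm hab (Subtype.prop _), mul_one] at this
  rw [dg]
  push_cast
  exact this

theorem sum_Q (Q : Subgroup D) (χ ψ : IrrCharacter D) :
    ∑ y : Q, χ.1 y * conj (ψ.1 y) = Nat.card Q * ((∑ lam, ee Q χ lam * ee Q ψ lam : ℕ) : ℂ) := by
  simp only [res_eq Q ψ, map_sum, map_mul, map_natCast, Finset.mul_sum]
  rw [Finset.sum_comm]
  push_cast
  rw [Finset.mul_sum]
  refine Finset.sum_congr rfl fun lam _ => ?_
  rw [← mul_assoc, ← sum_eq_ee, Finset.sum_mul]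
  exact Finset.sum_congr rfl fun y _ => by ring

theorem sum_mm_ee (hab : ∀ a b : Q, a * b = b * a)
    (hπ : ∀ y : Q, indFun H (fun _ => 1) (y : D) = if y = 1 then (Nat.card Q : ℂ) else 0) (lam : IrrCharacter Q) :
    ∑ χ : IrrCharacter D, mm H χ * ee Q χ lam = 1 := by
  have h1 : ∑ k : Q, indFun H (fun _ => 1) (k : D) * conj (lam.1 k) = Nat.card Q := by
    simp only [hπ, ite_mul, zero_mul, Finset.sum_ite_eq', Finset.mem_univ, if_true]
    rw [degree_eq_one_of_comm hab lam.2, map_one, mul_one]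
  simp only [ind_eq, Finset.sum_mul, mul_assoc] at h1
  rw [Finset.sum_comm] at h1
  simp only [← Finset.mul_sum, sum_eq_ee] at h1
  have h2 : (Nat.card Q : ℂ) * ((∑ χ : IrrCharacter D, mm H χ * ee Q χ lam : ℕ) : ℂ) = Nat.card Q * 1 := by
    rw [mul_one]
    conv_rhs => rw [← h1]
    push_cast
    rw [Finset.mul_sum]
    exact Finset.sum_congr rfl fun χ _ => by ring
  exact_mod_cast mul_left_cancel₀ natCard_ne_zero h2

theorem le_dg (hab : ∀ a b : Q, a * b = b * a) (hL : L ≤ normalizer (Q : Set D))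
    (hf : ∀ k ∈ L, ∀ y ∈ Q, k * y * k⁻¹ = y → k = 1 ∨ y = 1) {χ : IrrCharacter D} (h0 : ee Q χ (BEND.CHB.one Q) = 0) :
    Nat.card L ≤ dg Q χ := by
  obtain ⟨lam, hl⟩ := exists_ee Q χ
  let c : L →* MulAut Q := Q.normalizerMonoidHom.comp (inclusion hL)
  have hc : ∀ (k : L) (y : Q), (c k y : D) = k * y * (k : D)⁻¹ := fun _ _ => rfl
  let a : L → IrrCharacter Q := fun k => ⟨fun y => lam.1 (c k y), isIrrCharacter_comp_equiv lam.2 (c k)⟩
  have ha : ∀ k, ee Q χ (a k) = ee Q χ lam := fun k => by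
    have e := sum_eq_ee Q χ (a k)
    rw [show ∑ y : Q, χ.1 y * conj ((a k).1 y) = ∑ y : Q, χ.1 y * conj (lam.1 y) from
      Fintype.sum_equiv (c k).toEquiv _ _ fun y =>
        congrArg (· * conj (lam.1 (c k y))) (isClassFunction_of_isIrr χ.2 y k).symm, sum_eq_ee] at e
    exact_mod_cast (mul_left_cancel₀ natCard_ne_zero e).symm
  have l1 := degree_eq_one_of_comm hab lam.2
  have lm := map_mul_of_degree_one (isCharacter_of_isIrr lam.2) l1
  have key : ∀ k : L, (∀ y, lam.1 (c k y) = lam.1 y) → k = 1 := fun k hk => by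
    by_contra k1
    have hi : Function.Injective fun y : Q => y⁻¹ * c k y := fun y z e => by
      have e : y⁻¹ * c k y = z⁻¹ * c k z := e
      have e2 : c k (y * z⁻¹) = y * z⁻¹ := by
        rw [map_mul, map_inv, mul_inv_eq_iff_eq_mul, mul_assoc, ← e, mul_inv_cancel_left]
      rcases hf k k.2 _ (y * z⁻¹).2 (congrArg Subtype.val e2) with h | h
      · exact absurd (Subtype.ext h) k1
      · exact mul_inv_eq_one.1 (Subtype.ext h)
    refine hl ((congrArg (ee Q χ) (Subtype.ext (funext fun w => ?_))).trans h0)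
    obtain ⟨y, rfl⟩ := Finite.surjective_of_injective hi w
    change lam.1 (y⁻¹ * c k y) = 1
    rw [lm, hk, ← lm, inv_mul_cancel, l1]
  have hi : Function.Injective a := fun k k' e => by
    have := key (k * k'⁻¹) fun y => by
      have := congrFun (congrArg Subtype.val e) (c k'⁻¹ y)
      change lam.1 (c k (c k'⁻¹ y)) = lam.1 (c k' (c k'⁻¹ y)) at this
      rwa [← MulAut.mul_apply, ← MulAut.mul_apply, ← map_mul, ← map_mul, mul_inv_cancel, map_one] at this
    exact mul_inv_eq_one.1 this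
  calc Nat.card L = ∑ _k : L, 1 := by simp
    _ ≤ ∑ k : L, ee Q χ (a k) := Finset.sum_le_sum fun k _ => by rw [ha]; omega
    _ = ∑ m ∈ Finset.univ.image a, ee Q χ m := (Finset.sum_image fun _ _ _ _ e => hi e).symm
    _ ≤ _ := Finset.sum_le_sum_of_subset (Finset.subset_univ _)

theorem ti (hab : ∀ a b : Q, a * b = b * a) (hC : ∀ y ∈ Q, y ≠ 1 → centralizer {y} ≤ Q) {F : D → ℝ}
    (h0 : ∀ g, 0 ≤ F g) (hF : ∀ g x, F (x * g * x⁻¹) = F g) :
    Nat.card D * (∑ y : Q, F y - F 1) ≤ Nat.card (normalizer (Q : Set D)) * ∑ g, F g := by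
  have cj : ∀ {y w : D}, w⁻¹ * y * w = 1 → y = 1 := fun {y w} e => by
    simpa [mul_assoc] using congrArg (fun t => w * t * w⁻¹) e
  have t1 : ∀ {y w : D}, y ∈ Q → w⁻¹ * y * w ∈ Q → y ≠ 1 → ∀ q ∈ Q, w⁻¹ * q * w ∈ Q := fun {y w} hy hw y1 q hq =>
    hC _ hw (fun e => y1 (cj e)) (mem_centralizer_singleton_iff.2 (by
      have : q * y = y * q := congrArg Subtype.val (hab ⟨q, hq⟩ ⟨y, hy⟩)
      calc w⁻¹ * q * w * (w⁻¹ * y * w) = w⁻¹ * (q * y) * w := by group
        _ = _ := by rw [this]; group))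
  have t2 : ∀ {y w : D}, y ∈ Q → w⁻¹ * y * w ∈ Q → y ≠ 1 → w ∈ normalizer (Q : Set D) := fun {y w} hy hw y1 =>
    mem_normalizer_iff''.2 fun q => ⟨t1 hy hw y1 q, fun hq => by
      simpa [mul_assoc] using t1 (w := w⁻¹) hw (by simpa [mul_assoc] using hy)
        (fun e => y1 (cj e)) _ hq⟩
  have e1 : ∑ y : Q, F y - F 1 = ∑ g, if g ∈ Q ∧ g ≠ 1 then F g else 0 := by
    rw [sub_eq_iff_eq_add, ← Finset.sum_subtype (Finset.univ.filter (· ∈ Q)) (by simp) F, Finset.sum_filter,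
      show F 1 = ∑ g, if g = 1 then F g else 0 by simp, ← Finset.sum_add_distrib]
    refine Finset.sum_congr rfl fun g _ => ?_
    by_cases h1 : g = 1
    · rw [if_pos h1, if_pos (h1 ▸ one_mem Q : g ∈ Q), if_neg (fun h => h.2 h1), zero_add]
    · simp only [h1, ne_eq, not_false_eq_true, and_true, if_false, add_zero]
  have e2 : ∀ x : D, (∑ g, if g ∈ Q ∧ g ≠ 1 then F g else 0) =
      ∑ g, if x⁻¹ * g * x ∈ Q ∧ g ≠ 1 then F g else 0 := fun x =>
    Fintype.sum_equiv (MulAut.conj x).toEquiv _ _ fun g => by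
      change _ = if x⁻¹ * (x * g * x⁻¹) * x ∈ Q ∧ x * g * x⁻¹ ≠ 1 then F (x * g * x⁻¹) else 0
      rw [hF, show x⁻¹ * (x * g * x⁻¹) * x = g by group]
      simp
  rw [e1, Nat.card_eq_fintype_card, ← Finset.card_univ, ← nsmul_eq_mul, ← Finset.sum_const,
    Finset.sum_congr rfl fun x _ => e2 x, Finset.sum_comm, Finset.mul_sum]
  refine Finset.sum_le_sum fun g _ => ?_
  rw [← Finset.sum_filter, Finset.sum_const, nsmul_eq_mul]
  refine mul_le_mul_of_nonneg_right (Nat.cast_le.2 ?_) (h0 g)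
  rcases (Finset.univ.filter fun x => x⁻¹ * g * x ∈ Q ∧ g ≠ 1).eq_empty_or_nonempty with e | ⟨x, hx⟩
  · simp [e]
  have hx := (Finset.mem_filter.1 hx).2
  rw [← Fintype.card_coe, ← Nat.card_eq_fintype_card]
  refine Nat.card_le_card_of_injective (fun w => ⟨x⁻¹ * w.1, t2 hx.1 ?_ fun e => hx.2 ?_⟩) fun a b e => ?_
  · simpa [mul_assoc] using (Finset.mem_filter.1 w.2).2.1
  · exact cj e
  · exact Subtype.ext (mul_left_cancel (congrArg Subtype.val e))

theorem num {n e d d' : ℕ} (h1 : e ≤ d) (h2 : e ≤ d') (h3 : d < n) (h4 : d' < n)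
    (h : (n : ℝ) * (d + d') - (d - d') ^ 2 ≤ n * e * 2) : d = e := by
  have h : (n : ℤ) * (d + d') - (d - d') ^ 2 ≤ n * e * 2 := by exact_mod_cast h
  by_contra k
  rcases le_total d d' with l | l
  · obtain ⟨t, rfl⟩ := Nat.exists_eq_add_of_le l
    have : (e : ℤ) + 1 ≤ d := by omega
    have : (t : ℤ) < n := by omega
    push_cast at h
    nlinarith [mul_nonneg (Int.natCast_nonneg t) (sub_pos.2 this).le]
  · obtain ⟨t, rfl⟩ := Nat.exists_eq_add_of_le l
    have : (t : ℤ) < n := by omega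
    have : (e : ℤ) ≤ d' := by omega
    push_cast at h
    rcases Nat.eq_zero_or_pos t with rfl | t0
    · have : (e : ℤ) + 1 ≤ d' := by omega
      nlinarith
    · nlinarith [mul_pos (Int.natCast_pos.2 t0) (sub_pos.2 ‹(t : ℤ) < n›)]

theorem main (hab : ∀ a b : Q, a * b = b * a) (hC : ∀ y ∈ Q, y ≠ 1 → centralizer {y} ≤ Q)
    (hπ : ∀ y : Q, indFun H (fun _ => 1) (y : D) = if y = 1 then (Nat.card Q : ℂ) else 0)
    (hL : L ≤ normalizer (Q : Set D)) (hf : ∀ k ∈ L, ∀ y ∈ Q, k * y * k⁻¹ = y → k = 1 ∨ y = 1)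
    (hN : Nat.card (normalizer (Q : Set D)) ≤ Nat.card Q * Nat.card L) {r : ℕ}
    (hr : ∑ h : H, indFun H (fun _ => 1) (h : D) = Nat.card H * r) (h3 : 3 ≤ r) :
    Nat.card Q + Nat.card L = 1 + r * Nat.card L := by
  have s := sum_mm_ee hab hπ
  have le1 : ∀ χ lam, mm H χ * ee Q χ lam ≤ 1 := fun χ lam => s lam ▸
    Finset.single_le_sum (f := fun χ => mm H χ * ee Q χ lam) (fun _ _ => Nat.zero_le _) (Finset.mem_univ χ)
  have m1 : ∀ χ, mm H χ ≠ 0 → mm H χ = 1 := fun χ h => by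
    obtain ⟨lam, hl⟩ := exists_ee Q χ
    have := (Nat.le_mul_of_pos_right _ (Nat.pos_of_ne_zero hl)).trans (le1 χ lam)
    omega
  have un : ∀ χ ψ, mm H χ ≠ 0 → mm H ψ ≠ 0 → χ ≠ ψ → ∀ lam, ee Q χ lam * ee Q ψ lam = 0 := fun χ ψ a b c lam => by
    have := Finset.add_le_sum (s := Finset.univ) (f := fun χ => mm H χ * ee Q χ lam)
      (fun _ _ => Nat.zero_le _) (Finset.mem_univ χ) (Finset.mem_univ ψ) c
    simp only [s, m1 χ a, m1 ψ b, one_mul] at this
    rw [mul_eq_zero]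
    omega
  have sq : ∀ χ, mm H χ ≠ 0 → ∑ lam, ee Q χ lam * ee Q χ lam = dg Q χ := fun χ a =>
    Finset.sum_congr rfl fun lam _ => by
      have := le1 χ lam
      rw [m1 χ a, one_mul] at this
      rcases Nat.le_one_iff_eq_zero_or_eq_one.1 this with e | e <;> rw [e]
  have o1 : mm H (BEND.CHB.one D) = 1 := ee_one_one H
  let S := (Finset.univ.filter fun χ => mm H χ ≠ 0).erase (BEND.CHB.one D)
  have mS : ∀ {χ}, χ ∈ S ↔ χ ≠ BEND.CHB.one D ∧ mm H χ ≠ 0 := by simp [S]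
  have split : ∀ f : IrrCharacter D → ℕ, ∑ χ, mm H χ * f χ = f (BEND.CHB.one D) + ∑ χ ∈ S, f χ := fun f => by
    rw [Finset.add_sum_erase _ f (by simp [o1]), Finset.sum_filter]
    refine Finset.sum_congr rfl fun χ _ => ?_
    split_ifs with h
    · rw [m1 χ h, one_mul]
    · rw [not_not.1 h, zero_mul]
  have cS : r = 1 + S.card := by
    rw [sum_ind] at hr
    have : ∑ χ, mm H χ * mm H χ = r := by exact_mod_cast mul_left_cancel₀ natCard_ne_zero hr
    rw [← this, split, o1, Finset.sum_congr rfl fun χ h => m1 χ (mS.1 h).2]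
    simp
  have dn : Nat.card Q = 1 + ∑ χ ∈ S, dg Q χ := by
    have := hπ 1
    rw [if_pos rfl, ind_eq] at this
    simp only [coe_one, dg_eq hab] at this
    have e : ∑ χ, mm H χ * dg Q χ = Nat.card Q := by exact_mod_cast this
    have e1 : dg Q (BEND.CHB.one D) = 1 := by
      exact_mod_cast (dg_eq hab (BEND.CHB.one D)).symm.trans (show _ = (1 : ℂ) from rfl)
    rw [← e, split, e1]
  have ge : ∀ χ ∈ S, Nat.card L ≤ dg Q χ := fun χ h => le_dg hab hL hf (by
    simpa [ee_one_one] using un χ (BEND.CHB.one D) (mS.1 h).2 (by omega) (mS.1 h).1 (BEND.CHB.one Q))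
  have lt : ∀ χ ∈ S, dg Q χ < Nat.card Q := fun χ h => by
    have := Finset.single_le_sum (f := dg Q) (fun _ _ => Nat.zero_le _) h
    omega
  have eq : ∀ χ ∈ S, dg Q χ = Nat.card L := fun χ h => by
    obtain ⟨ψ, h', ne⟩ := Finset.exists_mem_ne (show 1 < S.card by omega) χ
    have ex : ∀ a b : ℂ, ((Complex.normSq (a - b) : ℝ) : ℂ) = a * conj a - a * conj b - b * conj a + b * conj b :=
      fun a b => by rw [← Complex.mul_conj, map_sub]; ring
    have T := ti hab hC (F := fun g => Complex.normSq (χ.1 g - ψ.1 g)) (fun _ => Complex.normSq_nonneg _)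
      fun g x => by simp only [isClassFunction_of_isIrr χ.2 g x, isClassFunction_of_isIrr ψ.2 g x]
    have c : ∀ a b : IrrCharacter D, ∑ g, a.1 g * conj (b.1 g) = Nat.card D * if a = b then 1 else 0 := fun a b => by
      rw [← classInner_irrCharacter, classInner, ← mul_assoc, mul_inv_cancel₀ natCard_ne_zero, one_mul]
    have a1 : ∑ g, Complex.normSq (χ.1 g - ψ.1 g) = Nat.card D * 2 := by
      apply Complex.ofReal_injective
      push_cast
      simp only [ex, Finset.sum_add_distrib, Finset.sum_sub_distrib, c, if_true, if_neg ne, if_neg ne.symm]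
      ring
    have a2 : ∑ y : Q, Complex.normSq (χ.1 y - ψ.1 y) = Nat.card Q * (dg Q χ + dg Q ψ) := by
      apply Complex.ofReal_injective
      push_cast
      simp only [ex, Finset.sum_add_distrib, Finset.sum_sub_distrib, sum_Q, sq χ (mS.1 h).2, sq ψ (mS.1 h').2,
        un χ ψ (mS.1 h).2 (mS.1 h').2 ne.symm, un ψ χ (mS.1 h').2 (mS.1 h).2 ne, Finset.sum_const_zero]
      push_cast
      ring
    have a3 : Complex.normSq (χ.1 1 - ψ.1 1) = ((dg Q χ : ℝ) - dg Q ψ) ^ 2 := by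
      rw [dg_eq hab, dg_eq hab, pow_two, ← Complex.normSq_ofReal]
      push_cast
      rfl
    simp only [a1, a2, a3] at T
    refine num (ge χ h) (ge ψ h') (lt χ h) (lt ψ h') ?_
    have p : (0 : ℝ) < Nat.card D := Nat.cast_pos.2 Nat.card_pos
    have hN' : (Nat.card (normalizer (Q : Set D)) : ℝ) ≤ Nat.card Q * Nat.card L := by exact_mod_cast hN
    refine le_of_mul_le_mul_left (T.trans ?_) p
    nlinarith
  rw [dn, Finset.sum_congr rfl eq, Finset.sum_const, cS, smul_eq_mul]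
  ring

theorem burn {Γ Ω : Type*} [Group Γ] [Fintype Γ] [MulAction Γ Ω] [Finite Ω] :
    ∑ g : Γ, Nat.card (fixedBy Ω g) = Nat.card (orbitRel.Quotient Γ Ω) * Nat.card Γ := by
  have := Fintype.ofFinite Ω
  have := Fintype.ofFinite (orbitRel.Quotient Γ Ω)
  simp only [Nat.card_eq_fintype_card]
  exact sum_card_fixedBy_eq_card_orbits_mul_card_group Γ Ω

end Chr

variable {D Ω : Type*} [Group D] [Finite D] [MulAction D Ω] [Finite Ω]

theorem chr (Q : Subgroup D) (α : Ω) (hab : ∀ a ∈ Q, ∀ b ∈ Q, a * b = b * a)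
    (hreg : Function.Bijective fun y : Q => (y : D) • α)
    (hC : ∀ y ∈ Q, y ≠ 1 → centralizer {y} ≤ Q)
    (h2 : ∃ β γ : Ω, β ≠ α ∧ γ ≠ α ∧ ∀ x ∈ stabilizer D α, x • β ≠ γ) :
    ∀ x ∈ stabilizer D α, ∀ β : Ω, ∃ k ∈ stabilizer D α ⊓ normalizer (Q : Set D),
      x • β = k • β := by
  classical
  have := Fintype.ofFinite D
  have sj : ∀ β : Ω, ∃ y ∈ Q, y • α = β := fun β => (hreg.2 β).elim fun y e => ⟨y, y.2, e⟩
  have ij : ∀ y ∈ Q, ∀ z ∈ Q, y • α = z • α → y = z := fun y hy z hz e =>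
    congrArg Subtype.val (hreg.1 (a₁ := ⟨y, hy⟩) (a₂ := ⟨z, hz⟩) e)
  have : IsPretransitive D Ω := ⟨fun β γ => by
    obtain ⟨y, -, rfl⟩ := sj β
    obtain ⟨z, -, rfl⟩ := sj γ
    exact ⟨z * y⁻¹, by simp [mul_smul]⟩⟩
  have cΩ : Nat.card Ω = Nat.card Q := (Nat.card_congr (Equiv.ofBijective _ hreg)).symm
  have hp := fun g => congrFun (S0190.result (G := D) Ω α) g
  have f1 : Nat.card (fixedBy Ω (1 : D)) = Nat.card Q := by rw [fixedBy_one_eq_univ, Nat.card_univ, cΩ]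
  set H := stabilizer D α with hH
  set L := H ⊓ normalizer (Q : Set D) with hL
  have hf : ∀ k ∈ L, ∀ y ∈ Q, k * y * k⁻¹ = y → k = 1 ∨ y = 1 := fun k hk y hy e =>
    or_iff_not_imp_right.2 fun y1 => ij k (hC y hy y1 (mem_centralizer_singleton_iff.2 (mul_inv_eq_iff_eq_mul.1 e)))
      1 (one_mem _) (by rw [one_smul]; exact hk.1)
  have hN : Nat.card (normalizer (Q : Set D)) ≤ Nat.card Q * Nat.card L := by
    rw [← Nat.card_prod]
    refine Nat.card_le_card_of_surjective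
      (fun p : Q × L => (⟨p.1 * p.2, mul_mem (le_normalizer p.1.2) p.2.2.2⟩ : normalizer (Q : Set D))) fun g => ?_
    obtain ⟨y, hy, e⟩ := sj (g.1 • α)
    exact ⟨(⟨y, hy⟩, ⟨y⁻¹ * g, mem_inf.2 ⟨by rw [hH, mem_stabilizer_iff, mul_smul, ← e, inv_smul_smul],
      mul_mem (inv_mem (le_normalizer hy)) g.2⟩⟩), Subtype.ext (by simp)⟩
  have r3 : 3 ≤ Nat.card (orbitRel.Quotient H Ω) := by
    obtain ⟨β, γ, b, c, h⟩ := h2
    have n : ∀ δ : Ω, δ ≠ α → (Quotient.mk'' δ : orbitRel.Quotient H Ω) ≠ Quotient.mk'' α := fun δ d e => by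
      obtain ⟨x, hx⟩ := Quotient.exact' e
      exact d (hx.symm.trans x.2)
    have := Fintype.ofFinite (orbitRel.Quotient H Ω)
    rw [Nat.card_eq_fintype_card]
    refine Fintype.two_lt_card_iff.2 ⟨Quotient.mk'' γ, Quotient.mk'' β, Quotient.mk'' α, fun e => ?_, n γ c, n β b⟩
    obtain ⟨x, hx⟩ := Quotient.exact' e
    exact h x x.2 hx
  have M := Chr.main (H := H) (L := L) (fun a b => Subtype.ext (hab a a.2 b b.2)) hC (fun y => by
    rw [← hp]
    split_ifs with y1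
    · rw [y1, coe_one, f1]
    · rw [Nat.cast_eq_zero, Nat.card_eq_zero]
      refine .inl ⟨fun ⟨β, hβ⟩ => y1 (Subtype.ext (ij y y.2 1 (one_mem _) ?_))⟩
      obtain ⟨z, hz, rfl⟩ := sj β
      rw [mem_fixedBy, ← mul_smul, hab y y.2 z hz, mul_smul, smul_left_cancel_iff] at hβ
      rw [hβ, one_smul]) inf_le_right hf hN (r := Nat.card (orbitRel.Quotient H Ω)) (by
    simp only [← hp]
    rw [mul_comm]
    exact_mod_cast Chr.burn (Γ := H) (Ω := Ω)) r3
  have B := Chr.burn (Γ := L) (Ω := Ω)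
  have fk : ∀ k ∈ Finset.univ.erase (1 : L), Nat.card (fixedBy Ω k) = 1 := fun k hk => by
    refine Nat.card_eq_one_iff_exists.2 ⟨⟨α, k.2.1⟩, fun ⟨β, hβ⟩ => Subtype.ext ?_⟩
    obtain ⟨z, hz, rfl⟩ := sj β
    have e : (k : D) • z • α = z • α := hβ
    have k1 : (k : D)⁻¹ • α = α := (inv_mem k.2).1
    have := ij _ ((mem_normalizer_iff.1 k.2.2 z).1 hz) z hz (by rw [mul_smul, k1, mul_smul, e])
    rcases hf k k.2 z hz this with h | h
    · exact absurd (Subtype.ext h) (Finset.ne_of_mem_erase hk)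
    · change z • α = α
      rw [h, one_smul]
  rw [← Finset.add_sum_erase _ _ (Finset.mem_univ (1 : L)), Finset.sum_congr rfl fk, Finset.sum_const,
    Finset.card_erase_of_mem (Finset.mem_univ _), Finset.card_univ, ← Nat.card_eq_fintype_card, smul_eq_mul, mul_one,
    show Nat.card (fixedBy Ω (1 : L)) = Nat.card Q from f1] at B
  have p : 0 < Nat.card L := Nat.card_pos
  have E : Nat.card (orbitRel.Quotient L Ω) = Nat.card (orbitRel.Quotient H Ω) :=
    Nat.eq_of_mul_eq_mul_right p (by omega)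
  let φ : orbitRel.Quotient L Ω → orbitRel.Quotient H Ω := Quotient.map' id fun a b ⟨k, e⟩ => ⟨⟨k, k.2.1⟩, e⟩
  have hs : Function.Surjective φ := fun q => Quotient.inductionOn' q fun a => ⟨Quotient.mk'' a, rfl⟩
  have hi := ((Nat.bijective_iff_surjective_and_card φ).2 ⟨hs, E⟩).1
  intro x hx β
  obtain ⟨k, e⟩ := Quotient.exact' (hi (a₁ := Quotient.mk'' (x • β)) (a₂ := Quotient.mk'' β)
    (Quotient.sound' ⟨⟨x, hx⟩, rfl⟩))
  exact ⟨k, k.2, e.symm⟩

end Cfsg.Agent.DER
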