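import Cfsg.Agent.DER.Pair
import Mathlib.Combinatorics.Enumerative.DoubleCounting

/-! Project DER: counting singular subgroups. -/

set_option autoImplicit false

namespace Cfsg.Agent.DER

open Subgroup MulAction

variable {H : Type*} [Group H] [Finite H] {l : ℕ} [Fact l.Prime] {U : Subgroup H} {z : H}

omit [Finite H] [Fact l.Prime] in
theorem Sg.mono33 {X Y : Subgroup H} (hY : Sg l U z Y) (h : X ≤ Y) : Sg l U z X :=
  ⟨h.trans hY.le, fun x hx => hY.pow x (h hx), fun x hx => hY.triv x (h hx)⟩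

/-- candidates for extending `X` -/
def TX33 (l : ℕ) (U : Subgroup H) (z : H) (X : Subgroup H) : Set H :=
  {x | x ∈ U ⊓ centralizer (X : Set H) ∧ x ^ l = 1 ∧ x ∉ X ∧ x * z ∉ X}

open Classical in
theorem cnt33 (hS : Sy l U z) (T : Finset (Subgroup H)) {a : ℕ}
    (h : ∀ Y ∈ T, Sg l U z Y ∧ Nat.card Y = l ^ a) (r : ℕ → ℕ) (hr0 : ∀ i, 1 ≤ r i)
    (hr : ∀ i j, a = j + i + 1 → ∀ X, ∀ Y ∈ T, X ≤ Y → Nat.card X = l ^ j →
      (TX33 l U z X).ncard ≤ r i * (l ^ a - l ^ j)) :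
    ∀ i ≤ a, ∀ X : Subgroup H, l ^ (a - i) ≤ Nat.card X →
      (T.filter fun Y => X ≤ Y).card ≤ ∏ j ∈ Finset.range i, r j := by
  have hl : l.Prime := Fact.out
  have hz : z ≠ 1 := fun e => hl.one_lt.ne (by rw [← hS.ord, e, orderOf_one])
  have pw : ∀ Y ∈ T, ∀ X ≤ Y, ∃ k, Nat.card X = l ^ k := fun Y hY X hX => by
    obtain ⟨k, -, e⟩ := (Nat.dvd_prime_pow hl).1 ((h Y hY).2 ▸ card_dvd_of_le hX)
    exact ⟨k, e⟩
  intro i
  induction i with
  | zero =>
    intro _ X hX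
    rw [Finset.prod_range_zero, Finset.card_le_one]
    intro Y hY Y' hY'
    rw [Finset.mem_filter] at hY hY'
    rw [← eq_of_le_of_card_ge hY.2 ((h Y hY.1).2.trans_le hX),
      eq_of_le_of_card_ge hY'.2 ((h Y' hY'.1).2.trans_le hX)]
  | succ i ih =>
    intro hi X hX
    rw [Finset.prod_range_succ]
    by_cases h1 : l ^ (a - i) ≤ Nat.card X
    · exact (ih (by omega) X h1).trans (Nat.le_mul_of_pos_right _ (hr0 i))
    rcases (T.filter fun Y => X ≤ Y).eq_empty_or_nonempty with e | ⟨Y0, hY0⟩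
    · rw [e]; exact Nat.zero_le _
    rw [Finset.mem_filter] at hY0
    obtain ⟨j, hj⟩ := pw Y0 hY0.1 X hY0.2
    rw [hj, not_le, Nat.pow_lt_pow_iff_right hl.one_lt] at h1
    rw [hj, Nat.pow_le_pow_iff_right hl.one_lt] at hX
    have ha : a = j + i + 1 := by omega
    have h2 := hr i j ha X Y0 hY0.1 hY0.2 hj
    have hpos : 0 < l ^ a - l ^ j :=
      Nat.sub_pos_of_lt (Nat.pow_lt_pow_right hl.one_lt (by omega))
    have h3 := Finset.card_mul_le_card_mul (s := T.filter fun Y => X ≤ Y)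
      (t := (Set.toFinite (TX33 l U z X)).toFinset) (fun Y x => x ∈ Y) (m := l ^ a - l ^ j)
      (n := ∏ j ∈ Finset.range i, r j) (fun Y hY => ?_) (fun x hx => ?_)
    · rw [← Set.ncard_eq_toFinset_card] at h3
      refine Nat.le_of_mul_le_mul_right (h3.trans ?_) hpos
      rw [mul_comm, mul_assoc]
      exact Nat.mul_le_mul_left _ h2
    · rw [Finset.mem_filter] at hY
      have hY1 := (h Y hY.1).1
      have h4 : ((Y : Set H) \ X).ncard = l ^ a - l ^ j := by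
        rw [Set.ncard_sdiff hY.2, ← (h Y hY.1).2, ← hj]; rfl
      rw [← h4, ← Set.ncard_coe_finset]
      refine Set.ncard_le_ncard fun x hx => ?_
      rw [Finset.mem_coe, Finset.mem_bipartiteAbove, Set.Finite.mem_toFinset]
      refine ⟨⟨mem_inf.2 ⟨hY1.le hx.1, fun y hy => hY1.comm hS y (hY.2 hy) x hx.1⟩,
        hY1.pow x hx.1, hx.2, fun e => hz ?_⟩, hx.1⟩
      exact hY1.triv z ((Y.mul_mem_cancel_left hx.1).1 (hY.2 e)) (mem_zpowers z)
    · rw [Set.Finite.mem_toFinset] at hx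
      rcases ((T.filter fun Y => X ≤ Y).bipartiteBelow (fun Y x => x ∈ Y) x).eq_empty_or_nonempty
        with e | ⟨Y, hY⟩
      · rw [e]; exact Nat.zero_le _
      rw [Finset.mem_bipartiteBelow, Finset.mem_filter] at hY
      have h4 : X ⊔ zpowers x ≤ Y := sup_le hY.1.2 (zpowers_le.2 hY.2)
      obtain ⟨k, hk⟩ := pw Y hY.1.1 _ h4
      have h5 : Nat.card X < Nat.card (X ⊔ zpowers x : Subgroup H) := by
        refine lt_of_not_ge fun e => hx.2.2.1 ?_
        rw [eq_of_le_of_card_ge (le_sup_left : X ≤ X ⊔ zpowers x) e]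
        exact mem_sup_right (mem_zpowers x)
      rw [hj, hk, Nat.pow_lt_pow_iff_right hl.one_lt] at h5
      refine le_trans (Finset.card_le_card fun Y' hY' => ?_) (ih (by omega) (X ⊔ zpowers x)
        (by rw [hk]; exact Nat.pow_le_pow_right hl.pos (by omega)))
      rw [Finset.mem_bipartiteBelow, Finset.mem_filter] at hY'
      exact Finset.mem_filter.2 ⟨hY'.1.1, sup_le hY'.1.2 (zpowers_le.2 hY'.2)⟩

theorem cnt33' (hS : Sy l U z) (T : Finset (Subgroup H)) {a : ℕ}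
    (h : ∀ Y ∈ T, Sg l U z Y ∧ Nat.card Y = l ^ a) (r : ℕ → ℕ) (hr0 : ∀ i, 1 ≤ r i)
    (hr : ∀ i j, a = j + i + 1 → ∀ X, ∀ Y ∈ T, X ≤ Y → Nat.card X = l ^ j →
      (TX33 l U z X).ncard ≤ r i * (l ^ a - l ^ j)) :
    T.card ≤ ∏ j ∈ Finset.range a, r j := by
  classical
  have := cnt33 hS T h r hr0 hr a le_rfl ⊥ (by simp)
  rwa [Finset.filter_true_of_mem fun _ _ => bot_le] at this

theorem card_cent33 (hS : Sy l U z) {X : Subgroup H} (hX : Sg l U z X) {j k o : ℕ}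
    (hj : Nat.card X = l ^ j) (hU : Nat.card U = l ^ (k + j) * o) :
    Nat.card (U ⊓ centralizer (X : Set H) : Subgroup H) = l ^ k * o := by
  have := pairing hS hX
  rw [hj, hU, pow_add, mul_right_comm] at this
  exact Nat.eq_of_mul_eq_mul_right (pow_pos (Fact.out : l.Prime).pos j) this

theorem cnt_odd (hS : Sy l U z) (T : Finset (Subgroup H)) {a o : ℕ}
    (h : ∀ Y ∈ T, Sg l U z Y ∧ Nat.card Y = l ^ a) (hU : Nat.card U = l ^ (2 * a) * o) :
    T.card ≤ ∏ j ∈ Finset.range a, 2 * o * l ^ (j + 1) := by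
  have hl : l.Prime := Fact.out
  have ho : 0 < o := Nat.pos_of_mul_pos_left (hU ▸ Nat.card_pos)
  refine cnt33' hS T h _ (fun i => Nat.mul_pos (by omega) (pow_pos hl.pos _))
    fun i j ha X Y hY hX hj => ?_
  have h1 := card_cent33 hS ((h Y hY).1.mono33 hX) (k := (i + 1) + a) hj
    (by rw [hU]; congr 2; omega)
  have h2 : (TX33 l U z X).ncard ≤ Nat.card (U ⊓ centralizer (X : Set H) : Subgroup H) :=
    Set.ncard_le_ncard fun x hx => hx.1
  have h3 : 2 * l ^ j ≤ l ^ a := by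
    rw [ha, add_assoc, pow_add, mul_comm]
    exact Nat.mul_le_mul_left _ (hl.two_le.trans (Nat.le_self_pow (by omega) l))
  rw [h1, pow_add] at h2
  refine h2.trans ?_
  calc l ^ (i + 1) * l ^ a * o = o * l ^ (i + 1) * l ^ a := by ring
    _ ≤ o * l ^ (i + 1) * (2 * (l ^ a - l ^ j)) := Nat.mul_le_mul_left _ (by omega)
    _ = _ := by ring

/-- at most half of the elements that do not centralise `Y` are involutions -/
theorem half33 {C Y : Subgroup H} (hYC : Y ≤ C) (hY : ∀ a ∈ Y, ∀ b ∈ Y, a * b = b * a)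
    (h2 : ∀ y ∈ Y, y * y = 1) :
    2 * {u | u ∈ C ∧ u ∉ centralizer (Y : Set H) ∧ u * u = 1}.ncard ≤
      ((C : Set H) \ centralizer (Y : Set H)).ncard := by
  let p : H → H := fun u => Classical.epsilon fun y => y ∈ Y ∧ y * u ≠ u * y
  have p1 : ∀ u, u ∉ centralizer (Y : Set H) → p u ∈ Y ∧ p u * u ≠ u * p u := fun u hu =>
    Classical.epsilon_spec (p := fun y => y ∈ Y ∧ y * u ≠ u * y) (by
      by_contra e
      exact hu fun y hy => by_contra fun e2 => e ⟨y, hy, e2⟩)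
  have p2 : ∀ u, ∀ y ∈ Y, p (u * y) = p u := fun u y hy => by
    refine congrArg Classical.epsilon (funext fun x => propext (and_congr_right fun hx => ?_))
    rw [mul_assoc, hY y hy x hx, ← mul_assoc, ← mul_assoc, Ne, Ne, mul_left_inj]
  set A := {u | u ∈ C ∧ u ∉ centralizer (Y : Set H) ∧ u * u = 1}
  have h3 : A ⊆ (C : Set H) \ centralizer (Y : Set H) := fun u hu => ⟨hu.1, hu.2.1⟩
  have h4 : A.ncard ≤ (((C : Set H) \ centralizer (Y : Set H)) \ A).ncard := by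
    refine Set.ncard_le_ncard_of_injOn (fun u => u * p u) (fun u hu => ?_) fun u hu v hv e => ?_
    · obtain ⟨k1, k2⟩ := p1 u hu.2.1
      refine ⟨⟨mul_mem hu.1 (hYC k1), fun e => k2 ?_⟩, fun e => k2 ?_⟩
      · have := e _ k1
        rwa [← mul_assoc, mul_left_inj] at this
      · have e1 := inv_eq_of_mul_eq_one_right e.2.2
        rwa [mul_inv_rev, inv_eq_of_mul_eq_one_right hu.2.2,
          inv_eq_of_mul_eq_one_right (h2 _ k1)] at e1
    · have e1 : p u = p v := by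
        rw [← p2 u _ (p1 u hu.2.1).1, ← p2 v _ (p1 v hv.2.1).1]; exact congrArg p e
      dsimp only at e
      rwa [e1, mul_left_inj] at e
  have h5 := Set.ncard_sdiff_add_ncard_of_subset h3
  omega

theorem cnt_two (hS : Sy 2 U z) (T : Finset (Subgroup H)) {a o : ℕ}
    (h : ∀ Y ∈ T, Sg 2 U z Y ∧ Nat.card Y = 2 ^ a ∧
      ∀ u ∈ U ⊓ centralizer (Y : Set H), u * u = 1 → u ∈ Y ∨ u * z ∈ Y)
    (hU : Nat.card U = 2 ^ (2 * a) * o) :
    T.card ≤ ∏ j ∈ Finset.range a, (2 + o * 2 ^ j) := by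
  have : Fact (Nat.Prime 2) := ⟨Nat.prime_two⟩
  have hz : z * z = 1 := by rw [← sq, ← hS.ord, pow_orderOf_eq_one]
  refine cnt33' hS T (fun Y hY => ⟨(h Y hY).1, (h Y hY).2.1⟩) _ (fun i => by omega)
    fun i j ha X Y hY hX hj => ?_
  obtain ⟨hY1, hY2, hY3⟩ := h Y hY
  have h1 := card_cent33 hS (hY1.mono33 hX) (k := (i + 1) + a) hj (by rw [hU]; congr 2; omega)
  have h2 := card_cent33 hS hY1 (k := a) hY2 (by rw [hU, two_mul])
  have h3 := half33 (C := U ⊓ centralizer (X : Set H)) (Y := Y)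
    (fun y hy => mem_inf.2 ⟨hY1.le hy, fun x hx => hY1.comm hS x (hX hx) y hy⟩) (hY1.comm hS)
    fun y hy => by rw [← sq]; exact hY1.pow y hy
  have h4 : (((U ⊓ centralizer (X : Set H) : Subgroup H) : Set H) \ centralizer (Y : Set H)).ncard +
      2 ^ a * o = 2 ^ (i + 1 + a) * o := by
    rw [← h1, ← h2]
    have h5 : ((U ⊓ centralizer (Y : Set H) : Subgroup H) : Set H) ⊆
        (U ⊓ centralizer (X : Set H) : Subgroup H) := inf_le_inf_left U (centralizer_le hX)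
    have h6 := Set.ncard_sdiff_add_ncard_of_subset h5
    have h7 : ((U ⊓ centralizer (X : Set H) : Subgroup H) : Set H) \ centralizer (Y : Set H) =
        ((U ⊓ centralizer (X : Set H) : Subgroup H) : Set H) \
          (U ⊓ centralizer (Y : Set H) : Subgroup H) :=
      Set.ext fun x => ⟨fun hx => ⟨hx.1, fun e => hx.2 (mem_inf.1 e).2⟩,
        fun hx => ⟨hx.1, fun e => hx.2 (mem_inf.2 ⟨(mem_inf.1 hx.1).1, e⟩)⟩⟩
    rw [h7]; exact h6
  have h5 : ((Y : Set H) \ X).ncard = 2 ^ a - 2 ^ j := by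
    rw [Set.ncard_sdiff hX, ← hY2, ← hj]; rfl
  set A := {u | u ∈ U ⊓ centralizer (X : Set H) ∧ u ∉ centralizer (Y : Set H) ∧ u * u = 1}
  have h6 : TX33 2 U z X ⊆ (((Y : Set H) \ X) ∪ (fun y => y * z) '' ((Y : Set H) \ X)) ∪ A := by
    rintro x ⟨k1, k2, k3, k4⟩
    rw [sq] at k2
    by_cases k5 : x ∈ centralizer (Y : Set H)
    · refine Or.inl ((hY3 x (mem_inf.2 ⟨(mem_inf.1 k1).1, k5⟩) k2).imp (fun e => ⟨e, k3⟩)
        fun e => ⟨x * z, ⟨e, k4⟩, by simp only [mul_assoc, hz, mul_one]⟩)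
    · exact Or.inr ⟨k1, k5, k2⟩
  have h7 := (Set.ncard_le_ncard h6).trans ((Set.ncard_union_le _ _).trans
    (Nat.add_le_add_right ((Set.ncard_union_le _ _).trans
      (Nat.add_le_add_left (Set.ncard_image_le (Set.toFinite _)) _)) _))
  rw [h5] at h7
  have h8 : 2 ^ j ≤ 2 ^ a := Nat.pow_le_pow_right (by decide) (by omega)
  obtain ⟨d, hd⟩ := Nat.exists_eq_add_of_le h8
  have h9 : 2 ^ a = 2 * 2 ^ i * 2 ^ j := by rw [ha]; ring
  have h10 : 2 ^ (i + 1 + a) * o = 2 * (o * 2 ^ i * d) + 2 ^ a * o := by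
    rw [pow_add, pow_succ]
    nth_rewrite 1 [hd]
    rw [h9]; ring
  rw [show 2 ^ a - 2 ^ j = d by omega] at h7 ⊢
  rw [add_mul]
  omega

end Cfsg.Agent.DER
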