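import Cfsg.Agent.H77.Derange
import Mathlib.GroupTheory.Sylow
import Mathlib.GroupTheory.Transfer
import Mathlib.GroupTheory.Nilpotent
import Mathlib.GroupTheory.Frattini

/-! Project DER (index of the subgroup generated by derangements): definitions and basic facts. -/

set_option autoImplicit false

namespace Cfsg.Agent.DER

open Subgroup MulAction

section Defs

variable {H : Type*} [Group H] (Q : Type*) [Group Q] [MulDistribMulAction H Q]

/-- elements outside `L` fix only the identity of `Q` -/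
def Fpf (L : Subgroup H) : Prop := ∀ g : H, g ∉ L → ∀ v : Q, g • v = v → v = 1

/-- `U` is semiregular on the non-identity elements of `Q` -/
def SR (U : Subgroup H) : Prop := ∀ g ∈ U, ∀ v : Q, g • v = v → g = 1 ∨ v = 1

/-- the fixed points of `Y` in `Q` -/
def Fx (Y : Subgroup H) : Subgroup Q where
  carrier := {v | ∀ y ∈ Y, y • v = v}
  one_mem' := fun y _ => smul_one y
  mul_mem' := fun ha hb y hy => by rw [smul_mul', ha y hy, hb y hy]
  inv_mem' := fun ha y hy => by rw [smul_inv', ha y hy]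

/-- `Y` is the stabiliser in `U` of every non-identity element that it fixes, and there is one -/
structure MS (U Y : Subgroup H) : Prop where
  le : Y ≤ U
  ne : Fx Q Y ≠ ⊥
  max : ∀ v ∈ Fx Q Y, v ≠ 1 → ∀ g ∈ U, g • v = v → g ∈ Y

/-- the conjugate `h Y h⁻¹` -/
def cn (h : H) (Y : Subgroup H) : Subgroup H := Y.map (MulAut.conj h).toMonoidHom

/-- `U` has class at most two, and `z` generates the socle of its centre and contains `U'` -/
structure Sy (l : ℕ) (U : Subgroup H) (z : H) : Prop where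
  mem : z ∈ U
  ord : orderOf z = l
  cen : ∀ u ∈ U, z * u = u * z
  com : ∀ a ∈ U, ∀ b ∈ U, a * b * a⁻¹ * b⁻¹ ∈ zpowers z
  soc : ∀ c ∈ U, (∀ u ∈ U, c * u = u * c) → c ^ l = 1 → c ∈ zpowers z

/-- subgroups of `U` of exponent `l` that meet the cyclic group generated by `z` trivially -/
structure Sg (l : ℕ) (U : Subgroup H) (z : H) (X : Subgroup H) : Prop where
  le : X ≤ U
  pow : ∀ x ∈ X, x ^ l = 1
  triv : ∀ x ∈ X, x ∈ zpowers z → x = 1

end Defs

variable {H : Type*} [Group H]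

theorem mem_cn {h x : H} {Y : Subgroup H} : x ∈ cn h Y ↔ h⁻¹ * x * h ∈ Y := by
  rw [cn, mem_map_equiv]; simp

theorem card_cn (h : H) (Y : Subgroup H) : Nat.card (cn h Y) = Nat.card Y :=
  card_map_of_injective (MulAut.conj h).injective

theorem cn_one (Y : Subgroup H) : cn 1 Y = Y := by ext x; simp [mem_cn]

theorem cn_cn (g h : H) (Y : Subgroup H) : cn g (cn h Y) = cn (g * h) Y := by
  ext x; simp [mem_cn, mul_assoc]

/-- the length of an orbit whose stabiliser lies in `L` -/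
theorem orbit_ge [Finite H] {X : Type*} [MulAction H X] {L U : Subgroup H} (hU : U ≤ L) {x : X}
    (h : stabilizer H x ≤ L) :
    L.index * (stabilizer H x).relIndex U ≤ (orbit H x).ncard := by
  rw [← index_stabilizer, ← relIndex_mul_index h, mul_comm]
  exact Nat.mul_le_mul_right _ (relIndex_le_of_le_right hU index_ne_zero_of_finite)

/-- an invariant set with a point whose stabiliser lies in `L` -/
theorem inv_ge [Finite H] {X : Type*} [Finite X] [MulAction H X] {L U : Subgroup H} (hU : U ≤ L)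
    {x : X} (h : stabilizer H x ≤ L) {T : Set X} (hT : ∀ g : H, g • x ∈ T) :
    L.index * (stabilizer H x).relIndex U ≤ T.ncard :=
  (orbit_ge hU h).trans (Set.ncard_le_ncard (by rintro _ ⟨g, rfl⟩; exact hT g))

variable {Q : Type*} [Group Q] [MulDistribMulAction H Q]

theorem mem_Fx {Y : Subgroup H} {v : Q} : v ∈ Fx Q Y ↔ ∀ y ∈ Y, y • v = v := Iff.rfl

theorem smul_mem_Fx {Y : Subgroup H} {v : Q} (h : H) : h • v ∈ Fx Q (cn h Y) ↔ v ∈ Fx Q Y := by
  refine ⟨fun hv y hy => ?_, fun hv y hy => ?_⟩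
  · have := hv (h * y * h⁻¹) (mem_cn.2 (by simpa [mul_assoc] using hy))
    rwa [mul_smul, inv_smul_smul, mul_smul, smul_left_cancel_iff] at this
  · have := hv _ (mem_cn.1 hy)
    rwa [mul_assoc, mul_smul, inv_smul_eq_iff, mul_smul] at this

theorem card_Fx_cn (h : H) (Y : Subgroup H) :
    Nat.card (Fx Q (cn h Y)) = Nat.card (Fx Q Y) :=
  (Nat.card_congr
    { toFun := fun v : Fx Q Y => (⟨h • (v : Q), (smul_mem_Fx h).2 v.2⟩ : Fx Q (cn h Y))
      invFun := fun v => ⟨h⁻¹ • (v : Q), (smul_mem_Fx h).1 (by rw [smul_inv_smul]; exact v.2)⟩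
      left_inv := fun v => Subtype.ext (inv_smul_smul h (v : Q))
      right_inv := fun v => Subtype.ext (smul_inv_smul h (v : Q)) }).symm

theorem MS.cn {U Y : Subgroup H} [hU : U.Normal] (hY : MS Q U Y) (h : H) : MS Q U (cn h Y) where
  le := fun x hx => by simpa [mul_assoc] using hU.conj_mem _ (hY.le (mem_cn.1 hx)) h
  ne := fun e => hY.ne (eq_bot_iff.2 fun v hv => by
    have := (smul_mem_Fx h).2 hv
    rw [e, mem_bot, smul_eq_iff_eq_inv_smul, smul_one] at this
    exact this)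
  max := fun v hv h1 g hg e => mem_cn.2 (hY.max (h⁻¹ • v)
    ((smul_mem_Fx h).1 (by rwa [smul_inv_smul]))
    (fun e2 => h1 (by rwa [inv_smul_eq_iff, smul_one] at e2)) _
    (by simpa using hU.conj_mem _ hg h⁻¹) (by rw [mul_smul, smul_inv_smul, mul_smul, e]))

/-- a subgroup that is not semiregular has a non-trivial maximal stabiliser -/
theorem exists_MS [Finite H] {U : Subgroup H} (h : ¬ SR Q U) : ∃ Y, MS Q U Y ∧ Y ≠ ⊥ := by
  simp only [SR, not_forall, not_or] at h
  obtain ⟨g, hg, v0, e, h1, h2⟩ := h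
  obtain ⟨Y, ⟨v, hv, rfl⟩, hm⟩ := Set.Finite.exists_maximalFor
    (fun Y : Subgroup H => Nat.card Y) {Y | ∃ v : Q, v ≠ 1 ∧ Y = U ⊓ stabilizer H v}
    (Set.toFinite _) ⟨_, v0, h2, rfl⟩
  refine ⟨U ⊓ stabilizer H v, ⟨inf_le_left, fun e2 => hv ?_, fun w hw h3 k hk e2 => ?_⟩, fun e2 => h1 ?_⟩
  · exact mem_bot.1 (e2 ▸ (fun y hy => (mem_inf.1 hy).2 : v ∈ Fx Q (U ⊓ stabilizer H v)))
  · have hle : U ⊓ stabilizer H v ≤ U ⊓ stabilizer H w := fun y hy =>
      mem_inf.2 ⟨(mem_inf.1 hy).1, hw y hy⟩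
    rw [eq_of_le_of_card_ge hle (hm ⟨w, h3, rfl⟩ (card_le_of_le hle))]
    exact mem_inf.2 ⟨hk, e2⟩
  · have h4 : Nat.card (U ⊓ stabilizer H v0 : Subgroup H) ≤ 1 := by
      rcases le_total (Nat.card (U ⊓ stabilizer H v : Subgroup H))
        (Nat.card (U ⊓ stabilizer H v0 : Subgroup H)) with h5 | h5
      · exact (hm ⟨v0, h2, rfl⟩ h5).trans (by rw [e2]; exact card_bot.le)
      · exact h5.trans (by rw [e2, card_bot])
    exact mem_bot.1 (eq_bot_of_card_le _ h4 ▸ (mem_inf.2 ⟨hg, e⟩ : g ∈ U ⊓ stabilizer H v0))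

theorem MS.inf_stab {U Y : Subgroup H} (hY : MS Q U Y) {v : Q} (hv : v ∈ Fx Q Y) (h1 : v ≠ 1) :
    stabilizer H v ⊓ U = Y :=
  le_antisymm (fun g hg => hY.max v hv h1 g (mem_inf.1 hg).2 (mem_inf.1 hg).1)
    fun y hy => mem_inf.2 ⟨hv y hy, hY.le hy⟩

theorem MS.relIndex {U Y : Subgroup H} (hY : MS Q U Y) {v : Q} (hv : v ∈ Fx Q Y) (h1 : v ≠ 1) :
    (stabilizer H v).relIndex U = Y.relIndex U := by
  rw [← inf_relIndex_right, hY.inf_stab hv h1]

theorem Fpf.stab_le {L : Subgroup H} (hL : Fpf Q L) {v : Q} (h1 : v ≠ 1) : stabilizer H v ≤ L :=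
  fun g hg => by_contra fun h => h1 (hL g h v hg)

/-- the reducible case -/
theorem red [Finite H] [Finite Q] {L : Subgroup H} (hL : Fpf Q L) {F : Subgroup Q} (h1 : F ≠ ⊥)
    (h2 : F ≠ ⊤) (hF : ∀ g : H, ∀ v ∈ F, g • v ∈ F) : (L.index + 1) ^ 2 ≤ Nat.card Q := by
  have a1 : L.index + 1 ≤ Nat.card F := by
    obtain ⟨v, hv, h4⟩ := (F.bot_or_exists_ne_one).resolve_left h1
    have := inv_ge (U := ⊥) bot_le (hL.stab_le h4) (T := (F : Set Q) \ {1}) fun g =>
      ⟨hF g v hv, fun e => h4 (by rwa [Set.mem_singleton_iff, smul_eq_iff_eq_inv_smul, smul_one] at e)⟩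
    rw [relIndex_bot_right, mul_one] at this
    have h5 := Set.ncard_sdiff_singleton_add_one (s := (F : Set Q)) (a := 1) F.one_mem
    have h6 : Nat.card F = (F : Set Q).ncard := rfl
    omega
  have a2 : L.index + 1 ≤ F.index := by
    let _ : MulAction H (Q ⧸ F) :=
      { smul := fun g => Quotient.map' (g • ·) fun a b hab => by
          rw [QuotientGroup.leftRel_apply] at hab ⊢
          rw [← smul_inv', ← smul_mul']; exact hF g _ hab
        one_smul := fun x => QuotientGroup.induction_on x fun a => congrArg _ (one_smul H a)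
        mul_smul := fun g k x => QuotientGroup.induction_on x fun a => congrArg _ (mul_smul g k a) }
    have hs : ∀ (g : H) (a : Q), g • (a : Q ⧸ F) = ((g • a : Q) : Q ⧸ F) := fun _ _ => rfl
    obtain ⟨v, hv⟩ : ∃ v, v ∉ F := by
      by_contra h
      exact h2 (eq_top_iff.2 fun v _ => by_contra fun e => h ⟨v, e⟩)
    have h4 : stabilizer H (v : Q ⧸ F) ≤ L := fun g hg => by_contra fun h => by
      have h5 : v⁻¹ * g • v ∈ F := QuotientGroup.eq.1 (mem_stabilizer_iff.1 hg).symm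
      have h6 : Function.Injective fun u : F => (⟨(u : Q)⁻¹ * g • (u : Q),
          mul_mem (inv_mem u.2) (hF g _ u.2)⟩ : F) := fun a b e => by
        have e1 : (a : Q)⁻¹ * g • (a : Q) = (b : Q)⁻¹ * g • (b : Q) := congrArg Subtype.val e
        have := hL g h ((a : Q) * (b : Q)⁻¹) (by
          rw [smul_mul', smul_inv', mul_inv_eq_iff_eq_mul, mul_assoc, ← e1, mul_inv_cancel_left])
        exact Subtype.ext (mul_inv_eq_one.1 this)
      obtain ⟨u, e⟩ := Finite.surjective_of_injective h6 ⟨_, h5⟩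
      have e1 : (u : Q)⁻¹ * g • (u : Q) = v⁻¹ * g • v := congrArg Subtype.val e
      have := hL g h ((u : Q) * v⁻¹) (by
        rw [smul_mul', smul_inv', mul_inv_eq_iff_eq_mul, mul_assoc, ← e1, mul_inv_cancel_left])
      exact hv (mul_inv_eq_one.1 this ▸ u.2)
    have := inv_ge (U := ⊥) bot_le h4 (T := {((1 : Q) : Q ⧸ F)}ᶜ) fun g e => by
      rw [Set.mem_singleton_iff, hs, QuotientGroup.eq, mul_one, inv_mem_iff] at e
      exact hv (by simpa using hF g⁻¹ _ e)
    rw [relIndex_bot_right, mul_one] at this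
    have h5 := Set.ncard_add_ncard_compl ({((1 : Q) : Q ⧸ F)} : Set (Q ⧸ F))
    rw [Set.ncard_singleton] at h5
    have h6 : F.index = Nat.card (Q ⧸ F) := rfl
    omega
  rw [← F.card_mul_index, sq]
  exact Nat.mul_le_mul a1 a2

end Cfsg.Agent.DER
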