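import Cfsg.Agent.DER.Defs

set_option autoImplicit false

namespace Cfsg.Agent.DER

open Subgroup MulAction

variable {D Ω : Type*} [Group D] [Finite D] [MulAction D Ω] [FaithfulSMul D Ω] [Finite Ω]

omit [Finite D] [FaithfulSMul D Ω] [Finite Ω] in
theorem Fin_dec {Q : Subgroup D} {α : Ω} (hreg : Function.Bijective fun y : Q => (y : D) • α) (g : D) :
    ∃ u ∈ Q, u⁻¹ * g ∈ stabilizer D α := by
  obtain ⟨u, hu⟩ := hreg.2 (g • α)
  exact ⟨u, u.2, by rw [mem_stabilizer_iff, mul_smul, inv_smul_eq_iff]; exact hu.symm⟩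

omit [Finite Ω] in
theorem Fin_burn {q : ℕ} [Fact q.Prime] (Q : Subgroup D) (α : Ω) (hp : IsPGroup q Q)
    (hq : ¬ q ∣ Nat.card (stabilizer D α)) (hab : ∀ a ∈ Q, ∀ b ∈ Q, a * b = b * a)
    (hreg : Function.Bijective fun y : Q => (y : D) • α)
    (hs : ∀ k ∈ stabilizer D α, k ∈ normalizer (Q : Set D) → k = 1) (g : D) : g ∈ Q := by
  have co : IsComplement' Q (stabilizer D α) := isComplement'_stabilizer α
    (fun h e => hreg.1 (e.trans (one_smul D α).symm)) fun g =>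
      let ⟨u, hu, e⟩ := Fin_dec hreg g
      ⟨⟨u⁻¹, inv_mem hu⟩, (mul_smul _ _ _).symm.trans e⟩
  have hi : Q.index = Nat.card (stabilizer D α) := co.symm.index_eq_card
  let P : Sylow q D := hp.toSylow (hi ▸ hq)
  have hP : normalizer ((P : Subgroup D) : Set D) ≤ centralizer ((P : Subgroup D) : Set D) := fun g hg => by
    obtain ⟨u, hu, e⟩ := Fin_dec hreg g
    have := hs _ e (mul_mem (inv_mem (le_normalizer hu)) hg)
    rw [inv_mul_eq_one] at this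
    exact mem_centralizer_iff.2 fun y hy => hab y hy g (this ▸ hu)
  have le : stabilizer D α ≤ (MonoidHom.transferSylow P hP).ker := fun k hk => by
    obtain ⟨n, hn⟩ := P.isPGroup' (MonoidHom.transferSylow P hP k)
    rw [MonoidHom.mem_ker, ← orderOf_eq_one_iff]
    exact Nat.eq_one_of_dvd_coprimes ((((Nat.Prime.coprime_iff_not_dvd Fact.out).2 hq)).pow_left n)
      (orderOf_dvd_of_pow_eq_one hn) ((orderOf_map_dvd _ k).trans (Subgroup.orderOf_dvd_natCard _ hk))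
  have eq : stabilizer D α = (MonoidHom.transferSylow P hP).ker := eq_of_le_of_card_ge le
    ((MonoidHom.ker_transferSylow_isComplement' P hP).index_eq_card.symm.trans hi).le
  have hn : (stabilizer D α).Normal := eq ▸ inferInstance
  obtain ⟨u, hu, e⟩ := Fin_dec hreg g
  have : u⁻¹ * g = 1 := eq_of_smul_eq_smul fun β : Ω => by
    obtain ⟨v, rfl⟩ := hreg.2 β
    have := mem_stabilizer_iff.1 (hn.conj_mem' _ e v)
    rw [mul_smul, mul_smul, inv_smul_eq_iff] at this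
    exact this.trans (one_smul D _).symm
  rw [inv_mul_eq_one] at this
  exact this ▸ hu

theorem cc {q : ℕ} [Fact q.Prime] (Q : Subgroup D) (α : Ω) (hp : IsPGroup q Q)
    (hq : ¬ q ∣ Nat.card (stabilizer D α)) (hab : ∀ a ∈ Q, ∀ b ∈ Q, a * b = b * a)
    (hreg : Function.Bijective fun y : Q => (y : D) • α)
    (hs : ∀ k ∈ stabilizer D α ⊓ normalizer (Q : Set D), ∀ y ∈ Q, k * y = y * k → k = 1 ∨ y = 1) :
    ∀ y ∈ Q, y ≠ 1 → centralizer {y} ≤ Q := fun y hy y1 g hg => by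
  have le : Q ≤ centralizer {y} := fun a ha => mem_centralizer_singleton_iff.2 (hab a ha y hy)
  refine Fin_burn (D := centralizer ({y} : Set D)) (q := q) (Q.subgroupOf _) α (hp.comap_subtype) (fun h => hq ?_)
    (fun a ha b hb => Subtype.ext (hab a ha b hb)) ⟨fun a b e => ?_, fun β => ?_⟩ (fun k hk hn => ?_) ⟨g, hg⟩
  · have e : stabilizer (centralizer ({y} : Set D)) α = (stabilizer D α).comap (centralizer {y}).subtype :=
      Subgroup.ext fun _ => Iff.rfl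
    rw [e] at h
    exact h.trans (card_comap_dvd_of_injective (stabilizer D α) _ (subtype_injective _))
  · have := congrArg Subtype.val (@hreg.1 ⟨_, a.2⟩ ⟨_, b.2⟩ e)
    exact Subtype.ext (Subtype.ext this)
  · obtain ⟨v, rfl⟩ := hreg.2 β
    exact ⟨⟨⟨v, le v.2⟩, v.2⟩, rfl⟩
  · rw [← subgroupOf_normalizer_eq le] at hn
    exact Subtype.ext ((hs k ⟨hk, hn⟩ y hy (mem_centralizer_singleton_iff.1 k.2)).resolve_right y1)

omit [Finite D] [FaithfulSMul D Ω] [Finite Ω] in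
theorem Fin_F {Q : Subgroup D} {α : Ω} (hreg : Function.Bijective fun y : Q => (y : D) • α)
    (ho : ∀ x ∈ stabilizer D α, ∀ β : Ω, ∃ k ∈ stabilizer D α ⊓ normalizer (Q : Set D), x • β = k • β)
    {t u y y' : D} (hu : u ∈ Q) (hy : y ∈ Q) (hy' : y' ∈ Q) (h1 : t • u • α = u • α) (h2 : t • y • α = y' • α) :
    ∃ k ∈ stabilizer D α ⊓ normalizer (Q : Set D), u⁻¹ * y' = k * (u⁻¹ * y) * k⁻¹ := by
  obtain ⟨k, hk, e⟩ := ho (u⁻¹ * t * u) (by rw [mem_stabilizer_iff, mul_smul, mul_smul, h1, inv_smul_smul])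
    ((u⁻¹ * y) • α)
  refine ⟨k, hk, congrArg Subtype.val (@hreg.1 ⟨_, mul_mem (inv_mem hu) hy'⟩
    ⟨_, (mem_normalizer_iff.1 hk.2 _).1 (mul_mem (inv_mem hu) hy)⟩ ?_)⟩
  show (u⁻¹ * y') • α = (k * (u⁻¹ * y) * k⁻¹) • α
  rw [mul_smul _ k⁻¹, mem_stabilizer_iff.1 (inv_mem hk.1), mul_smul k, ← e, mul_smul, ← h2]
  simp only [mul_smul, smul_inv_smul]

theorem fin (Q : Subgroup D) (α : Ω) (hab : ∀ a ∈ Q, ∀ b ∈ Q, a * b = b * a)
    (hreg : Function.Bijective fun y : Q => (y : D) • α)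
    (hs : ∀ k ∈ stabilizer D α ⊓ normalizer (Q : Set D), ∀ y ∈ Q, k * y = y * k → k = 1 ∨ y = 1)
    (ho : ∀ x ∈ stabilizer D α, ∀ β : Ω, ∃ k ∈ stabilizer D α ⊓ normalizer (Q : Set D),
      x • β = k • β)
    (he : (Nat.card (stabilizer D α ⊓ normalizer (Q : Set D) : Subgroup D) - 1) ^ 2 < Nat.card Ω) :
    stabilizer D α ≤ normalizer (Q : Set D) := fun x hx => by
  set L : Subgroup D := stabilizer D α ⊓ normalizer (Q : Set D)
  have key : ∀ t : D, (∀ y ∈ Q, t • y • α = y • α) → t = 1 := fun t h => eq_of_smul_eq_smul fun β : Ω => by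
    obtain ⟨v, rfl⟩ := hreg.2 β
    exact (h v v.2).trans (one_smul D _).symm
  rcases Q.bot_or_exists_ne_one with hQ | ⟨u, hu, u1⟩
  · rw [key x fun y hy => by rw [hQ, mem_bot] at hy; rw [hy, one_smul]; exact hx]
    exact one_mem _
  obtain ⟨k0, hk0, e0⟩ := ho x hx (u • α)
  suffices h : k0⁻¹ * x = 1 from inv_mul_eq_one.1 h ▸ hk0.2
  have t1 : (k0⁻¹ * x) • (1 : D) • α = (1 : D) • α := by
    rw [one_smul]; exact mul_mem (inv_mem (mem_inf.1 hk0).1) hx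
  have t2 : (k0⁻¹ * x) • u • α = u • α := by rw [mul_smul, e0, inv_smul_smul]
  generalize k0⁻¹ * x = t at t1 t2
  refine key t fun y0 hy0 => by_contra fun m0 => he.not_ge ?_
  choose σ hσ using fun y : Q => hreg.2 (t • (y : D) • α)
  have s0 : (σ ⟨y0, hy0⟩ : D) ≠ y0 := fun e => m0 (by rw [← show _ = t • y0 • α from hσ ⟨y0, hy0⟩]; exact congrArg (· • α) e)
  have ex : ∀ y : Q, ∃ p : {k : L // k ≠ 1} × {k : L // k ≠ 1},
      (p.1 ≠ p.2 ∧ u⁻¹ * (p.1.1 * y * (p.1.1 : D)⁻¹) = p.2.1 * (u⁻¹ * y) * (p.2.1 : D)⁻¹) ∨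
      (p.1 = p.2 ∧ (y : D)⁻¹ * σ ⟨y0, hy0⟩ = p.1.1 * ((y : D)⁻¹ * y0) * (p.1.1 : D)⁻¹) := fun y => by
    by_cases m : σ y = y
    · obtain ⟨k, hk, e⟩ := Fin_F hreg ho y.2 hy0 (σ ⟨y0, hy0⟩).2 ((hσ y).symm.trans (by rw [m])) (hσ ⟨y0, hy0⟩).symm
      have k1 : (⟨k, hk⟩ : L) ≠ 1 := fun c => s0 (by simpa [show k = 1 from congrArg Subtype.val c] using e)
      exact ⟨(⟨_, k1⟩, ⟨_, k1⟩), .inr ⟨rfl, e⟩⟩
    · obtain ⟨k, hk, e⟩ := Fin_F hreg ho (one_mem Q) y.2 (σ y).2 t1 (hσ y).symm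
      obtain ⟨k', hk', e'⟩ := Fin_F hreg ho hu y.2 (σ y).2 t2 (hσ y).symm
      rw [inv_one, one_mul, one_mul] at e
      have k1 : (⟨k, hk⟩ : L) ≠ 1 := fun c =>
        m (Subtype.ext (by simpa [show k = 1 from congrArg Subtype.val c] using e))
      have k2 : (⟨k', hk'⟩ : L) ≠ 1 := fun c =>
        m (Subtype.ext (by simpa [show k' = 1 from congrArg Subtype.val c] using e'))
      rw [e] at e'
      refine ⟨(⟨_, k1⟩, ⟨_, k2⟩), .inl ⟨fun c => ?_, e'⟩⟩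
      obtain rfl : k = k' := congrArg (·.1.1) c
      rw [← mul_assoc, ← mul_assoc, ← mul_assoc, mul_left_inj, mul_left_inj] at e'
      rcases hs k hk u⁻¹ (inv_mem hu) e'.symm with c | c
      exacts [k1 (Subtype.ext c), u1 (inv_eq_one.1 c)]
  choose f hf using ex
  have inj : Function.Injective f := fun a b e => by
    have hw := mul_mem (inv_mem a.2) b.2
    refine Subtype.ext (inv_mul_eq_one.1 ?_)
    have ha := hf a
    have hb := hf b
    rw [← e] at hb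
    generalize f a = p at ha hb
    obtain ⟨⟨⟨k, hk⟩, k1⟩, ⟨⟨k', hk'⟩, k2⟩⟩ := p
    rcases ha with ⟨a1, a2⟩ | ⟨a1, a2⟩ <;> rcases hb with ⟨b1, b2⟩ | ⟨b1, b2⟩
    · refine (hs (k'⁻¹ * k) (mul_mem (inv_mem hk') hk) _ hw ?_).resolve_left fun c =>
        a1 (Subtype.ext (Subtype.ext (inv_mul_eq_one.1 c).symm))
      have : (u⁻¹ * (k * a * k⁻¹))⁻¹ * (u⁻¹ * (k * b * k⁻¹)) = (k' * (u⁻¹ * a) * k'⁻¹)⁻¹ * (k' * (u⁻¹ * b) * k'⁻¹) :=
        congrArg₂ (·⁻¹ * ·) a2 b2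
      calc _ = k'⁻¹ * ((u⁻¹ * (k * a * k⁻¹))⁻¹ * (u⁻¹ * (k * b * k⁻¹))) * k := by group
        _ = _ := by rw [this]; group
    · exact absurd b1 a1
    · exact absurd a1 b1
    · refine (hs k hk _ hw ?_).resolve_left fun c => k1 (Subtype.ext c)
      have : (a : D)⁻¹ * σ ⟨y0, hy0⟩ * ((b : D)⁻¹ * σ ⟨y0, hy0⟩)⁻¹ =
          k * ((a : D)⁻¹ * y0) * k⁻¹ * (k * ((b : D)⁻¹ * y0) * k⁻¹)⁻¹ := congrArg₂ (· * ·⁻¹) a2 b2
      calc _ = k * ((a : D)⁻¹ * y0) * k⁻¹ * (k * ((b : D)⁻¹ * y0) * k⁻¹)⁻¹ * k := by group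
        _ = _ := by rw [← this]; group
  have c1 : Nat.card {k : L // k ≠ 1} = Nat.card L - 1 := by
    classical
    rw [← Nat.card_congr (Equiv.optionSubtypeNe (1 : L)), Finite.card_option, Nat.add_sub_cancel]
  rw [← Nat.card_eq_of_bijective _ hreg, sq, ← c1, ← Nat.card_prod]
  exact Nat.card_le_card_of_injective f inj

end Cfsg.Agent.DER
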