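import Cfsg.Agent.DER.Defs
import Cfsg.Agent.H24.FpfBasic

/-! Independence of fixed-point subgroups, and semiregular abelian groups. -/

set_option autoImplicit false
set_option linter.unusedSectionVars false
set_option linter.unusedVariables false

namespace Cfsg.Agent.DER

open Subgroup MulAction

variable {H Q : Type*} [Group H] [Finite H] [CommGroup Q] [Finite Q] [MulDistribMulAction H Q]

namespace IndA

/-- the endomorphism `v ↦ v⁻¹ * y • v` -/
def d (Q : Type*) [CommGroup Q] [MulDistribMulAction H Q] (y : H) : Q →* Q where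
  toFun v := v⁻¹ * y • v
  map_one' := by simp
  map_mul' a b := by rw [smul_mul', mul_inv, mul_mul_mul_comm]

theorem d_apply (y : H) (v : Q) : d Q y v = v⁻¹ * y • v := rfl

theorem card_sup (A B : Subgroup Q) (h : A ⊓ B = ⊥) :
    Nat.card (A ⊔ B : Subgroup Q) = Nat.card A * Nat.card B := by
  rw [← Nat.card_prod]
  refine (Nat.card_eq_of_bijective (fun x : A × B =>
    (⟨x.1.1 * x.2.1, mul_mem (mem_sup_left x.1.2) (mem_sup_right x.2.2)⟩ : (A ⊔ B : Subgroup Q))) ⟨?_, ?_⟩).symm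
  · rintro ⟨a, b⟩ ⟨a', b'⟩ e
    have e1 : (a : Q) * b = a' * b' := congrArg Subtype.val e
    have e2 : (a' : Q)⁻¹ * a = b' * (b : Q)⁻¹ := by
      rw [inv_mul_eq_iff_eq_mul, ← mul_assoc, ← e1, mul_inv_cancel_right]
    have e3 : (a' : Q)⁻¹ * a ∈ A ⊓ B :=
      mem_inf.2 ⟨mul_mem (inv_mem a'.2) a.2, e2 ▸ mul_mem b'.2 (inv_mem b.2)⟩
    rw [h, mem_bot] at e3
    have e4 : (a : Q) = a' := (inv_mul_eq_one.1 e3).symm
    rw [e4, mul_right_inj] at e1
    exact Prod.ext (Subtype.ext e4) (Subtype.ext e1)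
  · rintro ⟨x, hx⟩
    obtain ⟨a, ha, b, hb, rfl⟩ := mem_sup.1 hx
    exact ⟨(⟨a, ha⟩, ⟨b, hb⟩), rfl⟩

end IndA

open IndA in
/-- fixed-point subgroups of distinct maximal stabilisers inside an abelian group are independent -/
theorem ind {U B : Subgroup H} (hBU : B ≤ U) (hB : ∀ a ∈ B, ∀ b ∈ B, a * b = b * a)
    (T : Finset (Subgroup H)) {m f : ℕ}
    (h : ∀ Y ∈ T, Y ≤ B ∧ MS Q U Y ∧ Nat.card Y = m ∧ Nat.card (Fx Q Y) = f) :
    f ^ T.card ≤ Nat.card Q := by
  classical
  have k1 : ∀ Y ∈ T, ∀ S : Finset (Subgroup H), S ⊆ T → Y ∉ S → ∃ φ : Q →* Q,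
      (∀ Y' ∈ S, Fx Q Y' ≤ φ.ker) ∧ (∀ Y', Y' ≤ B → ∀ v ∈ Fx Q Y', φ v ∈ Fx Q Y') ∧
      ∀ v ∈ Fx Q Y, φ v = 1 → v = 1 := by
    intro Y hY S
    induction S using Finset.induction_on with
    | empty => exact fun _ _ => ⟨MonoidHom.id Q, by simp, fun _ _ _ k => k, fun _ _ k => k⟩
    | insert Z S hZ ih =>
      intro hs hn
      have hZT : Z ∈ T := hs (Finset.mem_insert_self _ _)
      obtain ⟨φ, a1, a2, a3⟩ := ih (fun x hx => hs (Finset.mem_insert_of_mem hx))
        fun k => hn (Finset.mem_insert_of_mem k)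
      obtain ⟨y, hy, ny⟩ : ∃ y ∈ Z, y ∉ Y := by
        by_contra k
        push Not at k
        refine hn (Finset.mem_insert.2 (Or.inl (eq_of_le_of_card_ge k ?_).symm))
        rw [(h Y hY).2.2.1, (h Z hZT).2.2.1]
      have yB := (h Z hZT).1 hy
      refine ⟨(d Q y).comp φ, fun Y' hY' v hv => ?_, fun Y' hY' v hv => ?_, fun v hv k => ?_⟩
      · rw [MonoidHom.mem_ker, MonoidHom.comp_apply]
        rcases Finset.mem_insert.1 hY' with rfl | k
        · rw [d_apply, a2 _ (h _ hZT).1 v hv y hy, inv_mul_cancel]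
        · rw [MonoidHom.mem_ker.1 (a1 Y' k hv), map_one]
      · rw [MonoidHom.comp_apply, d_apply]
        refine mul_mem (inv_mem (a2 _ hY' v hv)) fun x hx => ?_
        rw [← mul_smul, hB x (hY' hx) y yB, mul_smul, a2 _ hY' v hv x hx]
      · rw [MonoidHom.comp_apply, d_apply, inv_mul_eq_one] at k
        by_contra n
        exact ny ((h Y hY).2.1.max _ (a2 _ (h Y hY).1 v hv) (fun e => n (a3 v hv e)) y (hBU yB) k.symm)
  have k2 : ∀ S : Finset (Subgroup H), S ⊆ T → Nat.card (S.sup (Fx Q) : Subgroup Q) = f ^ S.card := by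
    intro S
    induction S using Finset.induction_on with
    | empty => intro _; simp
    | insert Z S hZ ih =>
      intro hs
      have hZT : Z ∈ T := hs (Finset.mem_insert_self _ _)
      have hS : S ⊆ T := fun x hx => hs (Finset.mem_insert_of_mem hx)
      obtain ⟨φ, a1, -, a3⟩ := k1 Z hZT S hS hZ
      rw [Finset.sup_insert, card_sup _ _ (eq_bot_iff.2 fun v hv =>
        a3 v (mem_inf.1 hv).1 (Finset.sup_le a1 (mem_inf.1 hv).2)), ih hS, (h Z hZT).2.2.2,
        Finset.card_insert_of_notMem hZ, pow_succ']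
  rw [← k2 T (Finset.Subset.refl _)]
  exact card_le_card_group _

/-- a semiregular abelian group of prime power order is cyclic -/
theorem cyc [Nontrivial Q] {l : ℕ} [Fact l.Prime] {B : Subgroup H} (hp : IsPGroup l B)
    (hB : ∀ a ∈ B, ∀ b ∈ B, a * b = b * a) (hs : SR Q B) : IsCyclic B := by
  have : IsMulCommutative B := ⟨⟨fun a b => Subtype.ext (hB a a.2 b b.2)⟩⟩
  exact (H24.fpf_of_mulAut ((MulDistribMulAction.toMulAut H Q).comp B.subtype) fun g hg k e =>
    (hs g g.2 k e).resolve_left fun e2 => hg (Subtype.ext e2)).isCyclic_of_comm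

end Cfsg.Agent.DER
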