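import Cfsg.Agent.DER.Defs
import Cfsg.Agent.H42.SylIn

set_option autoImplicit false

namespace Cfsg.Agent.DER

open Subgroup MulAction

variable {G Ω : Type*} [Group G] [Finite G] [MulAction G Ω] [FaithfulSMul G Ω] [Finite Ω]

namespace Red

open H42

/-- `K D = G` -/
def Sp (D K : Subgroup G) : Prop := ∀ g : G, ∃ k ∈ K, g⁻¹ * k ∈ D

omit [Finite G] in
theorem Sp.mono {D K K' : Subgroup G} (h : Sp D K) (hK : K ≤ K') : Sp D K' := fun g =>
  let ⟨k, h1, h2⟩ := h g; ⟨k, hK h1, h2⟩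

omit [Finite G] in
theorem Sp.relIndex {D K : Subgroup G} [D.Normal] (h : Sp D K) : D.relIndex K = D.index := by
  rw [← relIndex_top_right, ← relIndex_sup_right]
  congr 1
  refine eq_top_iff.2 fun g _ => ?_
  obtain ⟨k, h1, h2⟩ := h g
  have : g = k * (g⁻¹ * k)⁻¹ := by group
  rw [this]
  exact mul_mem (mem_sup_left h1) (mem_sup_right (inv_mem h2))

theorem Sp.frat {D K P : Subgroup G} [hD : D.Normal] {q : ℕ} [Fact q.Prime] (h : Sp D K)
    (hP : SylIn q P (K ⊓ D)) : Sp D (K ⊓ normalizer (P : Set G)) := fun g => by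
  obtain ⟨k, h1, h2⟩ := h g
  obtain ⟨d, hd, h3⟩ := hP.exists_conj (isPGroup_cj k hP.isP) (cj_le_iff.2 fun x hx =>
    mem_inf.2 ⟨mul_mem (mul_mem h1 (hP.le hx).1) (inv_mem h1), hD.conj_mem _ (hP.le hx).2 k⟩)
  refine ⟨d * k, mem_inf.2 ⟨mul_mem hd.1 h1, mem_normalizer_of_conj_mem fun x hx => ?_⟩, ?_⟩
  · have := h3 _ (conj_mem_cj hx)
    simpa [mul_assoc] using this
  · have := mul_mem (hD.conj_mem _ hd.2 g⁻¹) h2
    simpa [mul_assoc] using this

omit [Finite G] [FaithfulSMul G Ω] [Finite Ω] in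
theorem orb (K : Subgroup G) (β : Ω) : (orbit K β).ncard = (stabilizer G β).relIndex K := by
  rw [← index_stabilizer]
  rfl

omit [Finite G] [FaithfulSMul G Ω] in
theorem cong {D K : Subgroup G} (h2 : ∀ (g : G) (a b : Ω), a ≠ b → g • a = a → g • b = b → g ∈ D)
    {β : Ω} (hK : K ≤ stabilizer G β) {O : Set Ω} (hβ : β ∈ O) (hO : ∀ k ∈ K, ∀ x ∈ O, k • x ∈ O) :
    D.relIndex K ∣ O.ncard - 1 := by
  rw [← Set.ncard_sdiff_singleton_of_mem hβ]
  refine H77.dvd_card_of_forall_orbit (G := K) (O \ {β})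
    (fun k x hx => ⟨hO k k.2 x hx.1, fun e => hx.2 ?_⟩) _ fun x hx => ?_
  · exact smul_left_cancel (k : G) ((show (k : G) • x = β from e).trans (hK k.2).symm)
  · rw [Nat.card_coe_set_eq, ← index_stabilizer]
    exact index_dvd_of_le fun k hk => h2 k x β hx.2 hk (hK k.2)

omit [FaithfulSMul G Ω] in
theorem fix {R : Subgroup G} {r : ℕ} [hr : Fact r.Prime] (hR : IsPGroup r R) {O : Set Ω}
    (hO : ∀ k ∈ R, ∀ x ∈ O, k • x ∈ O) (h : ¬ r ∣ O.ncard) : ∃ β ∈ O, R ≤ stabilizer G β := by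
  by_contra! hc
  refine h (H77.dvd_card_of_forall_orbit (G := R) _ (fun k x hx => hO k k.2 x hx) _ fun x hx => ?_)
  rw [Nat.card_coe_set_eq, orb]
  obtain ⟨j, hj⟩ := hR.index ((stabilizer G x).subgroupOf R)
  rw [relIndex, hj]
  refine dvd_pow_self r fun e => hc x hx (relIndex_eq_one.1 ?_)
  rw [relIndex, hj, e, pow_zero]

theorem ge_of_dvd {s m : ℕ} (h : s ∣ m - 1) (h0 : m ≠ 0) (h1 : m ≠ 1) : s + 1 ≤ m := by
  have := Nat.le_of_dvd (by omega) h
  omega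

end Red

open Red H42

theorem reg {D : Subgroup G} [D.Normal] [IsPretransitive D Ω]
    (h2 : ∀ (g : G) (a b : Ω), a ≠ b → g • a = a → g • b = b → g ∈ D) (hs : 2 ≤ D.index)
    (hn : 2 ≤ Nat.card Ω) (hlt : Nat.card Ω < (D.index + 1) ^ 2) (α : Ω) :
    ∃ (q : ℕ) (Q : Subgroup G), q.Prime ∧ IsPGroup q Q ∧ Q ≤ D ∧ ¬ q ∣ Nat.card (stabilizer G α) ∧
      Function.Bijective (fun y : Q => (y : G) • α) ∧
      ∀ g : G, ∃ h ∈ stabilizer G α ⊓ normalizer (Q : Set G), g⁻¹ * h ∈ D := by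
  have hD : D.Normal := inferInstance
  have s0 : Sp D (stabilizer G α) := fun g => by
    obtain ⟨d, hd⟩ := exists_smul_eq D (g • α) α
    refine ⟨d * g, (mul_smul _ _ _).trans hd, ?_⟩
    simpa [mul_assoc] using hD.conj_mem _ d.2 g⁻¹
  have a0 : D.index ∣ Nat.card Ω - 1 := by
    have := cong h2 (le_refl (stabilizer G α)) (Set.mem_univ α) fun _ _ _ _ => Set.mem_univ _
    rwa [s0.relIndex, Set.ncard_univ] at this
  obtain ⟨q, hq, hqn⟩ := Nat.exists_prime_and_dvd (show Nat.card Ω ≠ 1 by omega)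
  have := Fact.mk hq
  have hqs : ¬ q ∣ D.index := fun h => hq.one_lt.ne' (Nat.dvd_one.1 (by
    have := Nat.dvd_sub hqn (h.trans a0)
    rwa [show Nat.card Ω - (Nat.card Ω - 1) = 1 by omega] at this))
  have hi : ∀ β : Ω, (stabilizer G β ⊓ D).relIndex D = Nat.card Ω := fun β => by
    rw [inf_relIndex_right, ← orb, orbit_eq_univ, Set.ncard_univ]
  obtain ⟨Q0, hQ0, -⟩ := exists_sylIn (p := q) IsPGroup.of_bot (bot_le (a := stabilizer G α ⊓ D))
  let Φ : Set Ω := {β | Q0 ≤ stabilizer G β}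
  have hα : α ∈ Φ := hQ0.le.trans inf_le_left
  have hΦ : ∀ k ∈ normalizer (Q0 : Set G), ∀ x ∈ Φ, k • x ∈ Φ := fun k hk x hx y hy => by
    have h1 : (k⁻¹ * y * k⁻¹⁻¹) • x = x := hx (conj_mem_of_mem_normalizer (inv_mem hk) hy)
    rw [inv_inv, mul_smul, mul_smul, inv_smul_eq_iff] at h1
    exact h1
  have s1 := s0.frat hQ0
  have a1 : D.index ∣ Φ.ncard - 1 := by
    have := cong h2 (inf_le_left : stabilizer G α ⊓ normalizer (Q0 : Set G) ≤ _) hα
      fun k hk => hΦ k hk.2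
    rwa [s1.relIndex] at this
  have h0D : Q0 ≤ D := hQ0.le.trans inf_le_right
  obtain ⟨Q1, hQ1, h01⟩ := exists_sylIn (H := normalizer (Q0 : Set G) ⊓ D) hQ0.isP
    (le_inf le_normalizer h0D)
  have h1D : Q1 ≤ D := hQ1.le.trans inf_le_right
  have s2 := (s1.mono inf_le_right).frat hQ1
  have e0 : ∀ β ∈ Φ, Q0.relIndex (stabilizer G β ⊓ D) * Nat.card Ω = Q0.relIndex D := fun β hβ => by
    rw [← hi β, relIndex_mul_relIndex _ _ _ (le_inf hβ h0D) inf_le_right]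
  have hne : Q1 ≠ Q0 := fun e => by
    obtain ⟨S, hS, h0S⟩ := exists_sylIn hQ0.isP h0D
    have h3 : Q0 < S := lt_of_le_of_ne h0S fun e2 => hS.ndvd (by
      rw [← e2, ← e0 α hα]; exact hqn.mul_left _)
    have h4 := lt_inf_normalizer hS.isP h3
    rw [e] at hQ1
    exact h4.ne' (hQ1.eq_of_le hS.isP.to_inf_left (le_inf inf_le_right (inf_le_left.trans hS.le))
      h4.le)
  have e1 : ∀ β ∈ Φ, stabilizer G β ⊓ Q1 = Q0 := fun β hβ => by
    have h3 : SylIn q Q0 (stabilizer G β ⊓ D) := ⟨le_inf hβ h0D, hQ0.isP, by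
      rw [Nat.eq_of_mul_eq_mul_right (by omega) ((e0 β hβ).trans (e0 α hα).symm)]
      exact hQ0.ndvd⟩
    exact h3.eq_of_le hQ1.isP.to_inf_right (inf_le_inf_left _ h1D) (le_inf hβ h01)
  have e2 : ∀ β ∈ Φ, (orbit Q1 β).ncard = Q0.relIndex Q1 := fun β hβ => by
    rw [orb, ← inf_relIndex_right, e1 β hβ]
  have hΦ0 : Φ.ncard ≠ 0 := ((Set.ncard_pos (Set.toFinite _)).2 ⟨α, hα⟩).ne'
  have a2 : D.index ∣ Q0.relIndex Q1 - 1 := by
    refine (Nat.dvd_iff_prime_pow_dvd_dvd _ _).2 fun r e hr hre => ?_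
    rcases Nat.eq_zero_or_pos e with rfl | he
    · simp
    have := Fact.mk hr
    obtain ⟨R, hR, -⟩ := exists_sylIn (p := r) IsPGroup.of_bot
      (bot_le (a := normalizer (Q0 : Set G) ⊓ normalizer (Q1 : Set G)))
    obtain ⟨β, hβ, h3⟩ := fix hR.isP (O := Φ) (fun k hk => hΦ k (hR.le hk).1) fun h =>
      hr.one_lt.ne' (Nat.dvd_one.1 (by
        have := Nat.dvd_sub h (((dvd_pow_self r he.ne').trans hre).trans a1)
        rwa [show Φ.ncard - (Φ.ncard - 1) = 1 by omega] at this))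
    have h4 := cong h2 h3 (mem_orbit_self (M := Q1) β) (by
      rintro k hk _ ⟨y, rfl⟩
      refine ⟨⟨k * y * k⁻¹, conj_mem_of_mem_normalizer (hR.le hk).2 y.2⟩, ?_⟩
      change (k * y * k⁻¹) • β = k • (y : G) • β
      rw [mul_smul, mul_smul, show k⁻¹ • β = β from h3 (inv_mem hk)])
    rw [e2 β hβ] at h4
    refine Dvd.dvd.trans ?_ h4
    refine (((Nat.Prime.coprime_iff_not_dvd hr).2 hR.ndvd).pow_left e).dvd_of_dvd_mul_right ?_
    rw [← inf_relIndex_right D R, relIndex_mul_relIndex _ _ _ inf_le_right hR.le]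
    exact hre.trans (s2.relIndex ▸ relIndex_dvd_of_le_left _ inf_le_left)
  obtain ⟨j, hj⟩ := hQ1.isP.index (Q0.subgroupOf Q1)
  have a3 : Q0.relIndex Q1 ∣ Nat.card Ω := by
    have h3 : Q0.relIndex Q1 ∣ Q0.relIndex (stabilizer G α ⊓ D) * Nat.card Ω := by
      rw [e0 α hα]; exact Dvd.intro _ (relIndex_mul_relIndex _ _ _ h01 h1D)
    rw [relIndex, hj] at h3 ⊢
    exact (((Nat.Prime.coprime_iff_not_dvd hq).2 hQ0.ndvd).pow_left j).dvd_of_dvd_mul_left h3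
  obtain ⟨k, hk⟩ := a3
  have m0 : Q0.relIndex Q1 ≠ 0 := index_ne_zero_of_finite
  have m1 : D.index + 1 ≤ Q0.relIndex Q1 :=
    ge_of_dvd a2 m0 fun e => hne (le_antisymm (relIndex_eq_one.1 e) h01)
  have k1 : k = 1 := by
    by_contra hk1
    have k0 : k ≠ 0 := by rintro rfl; omega
    have h3 : D.index ∣ k - 1 := by
      obtain ⟨m, hm⟩ := Nat.exists_eq_succ_of_ne_zero m0
      rw [hm, Nat.succ_sub_one] at a2
      rw [hk, hm, show m.succ * k - 1 = m * k + (k - 1) by rw [Nat.succ_mul]; omega] at a0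
      exact (Nat.dvd_add_right (a2.mul_right k)).1 a0
    exact hlt.not_ge (by rw [hk, sq]; exact Nat.mul_le_mul m1 (ge_of_dvd h3 k0 hk1))
  have hu : orbit Q1 α = Set.univ := Set.eq_of_subset_of_ncard_le (Set.subset_univ _) (by
    rw [e2 α hα, Set.ncard_univ, hk, k1, mul_one])
  have hs' : ∀ β : Ω, ∃ y : Q1, (y : G) • α = β := fun β => (hu ▸ Set.mem_univ β : β ∈ orbit Q1 α)
  have hb : Q0 = ⊥ := eq_bot_iff.2 fun x hx => mem_bot.2 (eq_of_smul_eq_smul fun β : Ω => by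
    obtain ⟨y, rfl⟩ := hs' β
    rw [one_smul]
    exact hΦ y (hQ1.le y.2).1 α hα hx)
  refine ⟨q, Q1, hq, hQ1.isP, h1D, fun h => ?_, ⟨fun y y' e => ?_, hs'⟩, fun g => ?_⟩
  · rw [← card_mul_relIndex (inf_le_left : stabilizer G α ⊓ D ≤ _), inf_relIndex_left,
      s0.relIndex] at h
    refine hqs ((hq.dvd_mul.1 h).resolve_left fun h3 => hQ0.ndvd ?_)
    rwa [hb, relIndex_bot_left]
  · have h3 : (y' : G)⁻¹ * y ∈ stabilizer G α ⊓ Q1 := mem_inf.2
      ⟨by rw [mem_stabilizer_iff, mul_smul, inv_smul_eq_iff]; exact e, mul_mem (inv_mem y'.2) y.2⟩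
    rw [e1 α hα, hb, mem_bot, inv_mul_eq_one] at h3
    exact Subtype.ext h3.symm
  · obtain ⟨n, h3, h4⟩ := s2 g
    obtain ⟨y, hy⟩ := hs' (n • α)
    refine ⟨(y : G)⁻¹ * n, mem_inf.2 ⟨?_, mul_mem (inv_mem (le_normalizer y.2)) h3.2⟩, ?_⟩
    · rw [mem_stabilizer_iff, mul_smul, inv_smul_eq_iff, hy]
    · have := mul_mem (hD.conj_mem _ (inv_mem (h1D y.2)) g⁻¹) h4
      simpa [mul_assoc] using this

end Cfsg.Agent.DER
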