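import Cfsg.Agent.DER.Aff
import Cfsg.Agent.DER.Red
import Cfsg.Agent.DER.Chr
import Cfsg.Agent.DER.Fin

/-! Project DER: a large index of the derangement subgroup forces a Frobenius group. -/

set_option autoImplicit false

namespace Cfsg.Agent.DER

open Subgroup MulAction

variable {G Ω : Type*} [Group G] [Finite G] [MulAction G Ω] [FaithfulSMul G Ω] [Finite Ω]

theorem step33 {D Q : Subgroup G} [D.Normal] {α : Ω} {q : ℕ} [Fact q.Prime]
    (h2 : ∀ (g : G) (a b : Ω), a ≠ b → g • a = a → g • b = b → g ∈ D)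
    (hn : 2 ≤ Nat.card Ω) (hlt : Nat.card Ω < (D.index + 1) ^ 2) (hp : IsPGroup q Q)
    (hreg : Function.Bijective (fun y : Q => (y : G) • α))
    (hi : D.relIndex (stabilizer G α ⊓ normalizer (Q : Set G)) = D.index) :
    (∀ a ∈ Q, ∀ b ∈ Q, a * b = b * a) ∧ ∀ k ∈ stabilizer G α ⊓ normalizer (Q : Set G),
      ∀ y ∈ Q, k * y = y * k → k = 1 ∨ y = 1 := by
  set H := stabilizer G α ⊓ normalizer (Q : Set G) with hH
  let _ : MulDistribMulAction H Q :=
    MulDistribMulAction.compHom Q (Q.normalizerMonoidHom.comp (inclusion inf_le_right))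
  have hs : ∀ (h : H) (y : Q), ((h • y : Q) : G) = h * y * (h : G)⁻¹ := fun _ _ => rfl
  have key : ∀ (h : H) (y : Q), ((h • y : Q) : G) • α = (h : G) • (y : G) • α := fun h y => by
    rw [hs, mul_smul, mul_smul, show (h : G)⁻¹ • α = α from inv_mem (mem_inf.1 h.2).1]
  have hL : Fpf Q (D.subgroupOf H) := fun g hg y e => by_contra fun h1 => hg (by
    refine h2 g α ((y : G) • α) (fun e2 => h1 (hreg.1 ?_)) (mem_inf.1 g.2).1 ?_
    · simpa using e2.symm
    · rw [← key, e])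
  have hc : Nat.card Q = Nat.card Ω := Nat.card_eq_of_bijective _ hreg
  have hlt' : ¬ ((D.subgroupOf H).index + 1) ^ 2 ≤ Nat.card Q := by
    rw [hc, show (D.subgroupOf H).index = D.index from hi]; omega
  have : Nontrivial Q := Finite.one_lt_card_iff_nontrivial.1 (by omega)
  have hz : center Q = ⊤ := by_contra fun h => hlt' (red hL
    ((nontrivial_iff_ne_bot _).1 hp.center_nontrivial) h fun g v hv => mem_center_iff.2 fun w => by
      rw [← smul_inv_smul g w, ← smul_mul', ← smul_mul', mem_center_iff.1 hv])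
  have hab : ∀ a b : Q, a * b = b * a := fun a b => mem_center_iff.1 (hz ▸ mem_top b) a
  refine ⟨fun a ha b hb => congrArg Subtype.val (hab ⟨a, ha⟩ ⟨b, hb⟩), fun k hk y hy e => ?_⟩
  let _ : CommGroup Q := { (inferInstance : Group Q) with mul_comm := hab }
  have : FaithfulSMul H Q := ⟨fun {g g'} h => Subtype.ext (eq_of_smul_eq_smul (α := Ω) fun w => by
    obtain ⟨y, rfl⟩ := hreg.2 w
    rw [← key, ← key, h])⟩
  have h3 : SR Q (D.subgroupOf H) := by_contra fun h => hlt' (aff hL h)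
  have e2 : (⟨k, hk⟩ : H) • (⟨y, hy⟩ : Q) = ⟨y, hy⟩ :=
    Subtype.ext (by rw [hs]; exact mul_inv_eq_iff_eq_mul.2 e)
  by_cases h4 : (⟨k, hk⟩ : H) ∈ D.subgroupOf H
  · exact (h3 _ h4 _ e2).imp (congrArg Subtype.val) (congrArg Subtype.val)
  · exact Or.inr (congrArg Subtype.val (hL _ h4 _ e2))

theorem main [IsPretransitive G Ω] (D : Subgroup G) [D.Normal]
    (hD : ∀ g : G, (∀ ω : Ω, g • ω ≠ ω) → g ∈ D) (hs : 2 ≤ D.index) (hn : 2 ≤ Nat.card Ω)
    (hlt : Nat.card Ω < (D.index + 1) ^ 2) :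
    (∃ Q : Subgroup G, Q.Normal ∧ IsMulCommutative Q ∧ Q ≠ ⊥) ∧
      (∃ g : G, g ≠ 1 ∧ ∃ ω : Ω, g • ω = ω) ∧ ∀ g : G, g ≠ 1 → Nat.card (fixedBy Ω g) ≤ 1 := by
  have : Nontrivial Ω := Finite.one_lt_card_iff_nontrivial.1 hn
  obtain ⟨α⟩ : Nonempty Ω := inferInstance
  have := (H77.of_derangements_mem D hD).1
  have h2 : ∀ (g : G) (a b : Ω), a ≠ b → g • a = a → g • b = b → g ∈ D :=
    fun g a b h ha hb => H77.mem_of_two_fixed D hD h ha hb
  obtain ⟨q, Q, hq, hp, hQD, hqd, hreg, hcov⟩ := reg h2 hs hn hlt α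
  have : Fact q.Prime := ⟨hq⟩
  set H := stabilizer G α ⊓ normalizer (Q : Set G) with hH
  have hi : D.relIndex H = D.index := by
    rw [← relIndex_sup_right H D, ← relIndex_top_right]
    congr 1
    refine eq_top_iff.2 fun g _ => ?_
    obtain ⟨h, hh, e⟩ := hcov g
    have := mul_mem (mem_sup_left hh : h ∈ H ⊔ D) (mem_sup_right (inv_mem e))
    simpa using this
  obtain ⟨hab, hsr⟩ := step33 h2 hn hlt hp hreg hi
  have fx : ∀ k ∈ H, ∀ β, k • β = β → k = 1 ∨ β = α := fun k hk β e => by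
    obtain ⟨y, rfl⟩ := hreg.2 β
    have h3 : k * y * k⁻¹ ∈ Q := (mem_normalizer_iff.1 (mem_inf.1 hk).2 _).1 y.2
    have h4 : (⟨_, h3⟩ : Q) = y := hreg.1 (by
      dsimp only at e ⊢
      rw [mul_smul, mul_smul, show k⁻¹ • α = α from inv_mem (mem_inf.1 hk).1, e])
    refine (hsr k hk y y.2 (mul_inv_eq_iff_eq_mul.1 (congrArg Subtype.val h4))).imp_right fun e => ?_
    dsimp only
    rw [e, one_smul]
  obtain ⟨β, hβ⟩ := exists_ne α
  obtain ⟨h, hh, hhD⟩ : ∃ h ∈ H, h ∉ D := by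
    by_contra h3
    have : D.relIndex H = 1 := relIndex_eq_one.2 fun h hh => by_contra fun e => h3 ⟨h, hh, e⟩
    omega
  have nα : ∀ g ∈ stabilizer G α, g • β ≠ α := fun g hg e =>
    hβ (by rw [← inv_smul_smul g β, e]; exact inv_mem hg)
  have hnorm := subgroupOf_normalizer_eq hQD
  have hab' : ∀ a ∈ Q.subgroupOf D, ∀ b ∈ Q.subgroupOf D, a * b = b * a :=
    fun a ha b hb => Subtype.ext (hab a ha b hb)
  have hreg' : Function.Bijective fun y : Q.subgroupOf D => (y : D) • α :=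
    hreg.comp (subgroupOfEquivOfLe hQD).bijective
  have memH : ∀ k ∈ stabilizer D α ⊓ normalizer (Q.subgroupOf D : Set D), (k : G) ∈ H :=
    fun k hk => mem_inf.2 ⟨(mem_inf.1 hk).1, mem_subgroupOf.1 (hnorm ▸ (mem_inf.1 hk).2)⟩
  have hs' : ∀ k ∈ stabilizer D α ⊓ normalizer (Q.subgroupOf D : Set D), ∀ y ∈ Q.subgroupOf D,
      k * y = y * k → k = 1 ∨ y = 1 := fun k hk y hy e =>
    (hsr k (memH k hk) y hy (congrArg Subtype.val e)).imp Subtype.ext Subtype.ext
  have hC := cc (Q.subgroupOf D) α (hp.of_equiv (subgroupOfEquivOfLe hQD).symm)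
    (fun e => hqd (e.trans (card_comap_dvd_of_injective (stabilizer G α) D.subtype
      D.subtype_injective))) hab' hreg' hs'
  have ho := chr (Q.subgroupOf D) α hab' hreg' hC ⟨β, h • β, hβ, nα h (mem_inf.1 hh).1,
    fun x hx e => hhD (by
      have h3 := h2 (h⁻¹ * x) α β hβ.symm (mul_mem (inv_mem (mem_inf.1 hh).1) hx)
        (by rw [mul_smul, inv_smul_eq_iff]; exact e)
      exact inv_mem_iff.1 ((D.mul_mem_cancel_right x.2).1 h3))⟩
  have he : Nat.card (stabilizer D α ⊓ normalizer (Q.subgroupOf D : Set D) : Subgroup D) * D.index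
      + 1 ≤ Nat.card Ω := by
    have h3 : Nat.card (stabilizer D α ⊓ normalizer (Q.subgroupOf D : Set D) : Subgroup D) ≤
        Nat.card (D.subgroupOf H) := Nat.card_le_card_of_injective
      (fun k => ⟨⟨k.1, memH k.1 k.2⟩, k.1.2⟩) fun a b e =>
        Subtype.ext (Subtype.ext (congrArg (fun x : D.subgroupOf H => ((x : H) : G)) e))
    have h4 : Nat.card H ≤ ({α}ᶜ : Set Ω).ncard := Nat.card_le_card_of_injective
      (fun k => (⟨(k : G) • β, nα k (mem_inf.1 k.2).1⟩ : ({α}ᶜ : Set Ω))) fun a b e => by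
        have e1 : (a : G) • β = (b : G) • β := congrArg Subtype.val e
        have := (fx _ (mul_mem (inv_mem a.2) b.2) β
          (by rw [mul_smul, inv_smul_eq_iff, e1])).resolve_right hβ
        exact Subtype.ext (inv_mul_eq_one.1 this)
    have h5 := Set.ncard_add_ncard_compl ({α} : Set Ω)
    rw [Set.ncard_singleton] at h5
    have h6 := (D.subgroupOf H).card_mul_index
    rw [show (D.subgroupOf H).index = D.index from hi] at h6
    have h7 := Nat.mul_le_mul_right D.index h3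
    omega
  have hf := fin (Q.subgroupOf D) α hab' hreg' hs' ho (by
    generalize Nat.card (stabilizer D α ⊓ normalizer (Q.subgroupOf D : Set D) : Subgroup D) = e
      at he ⊢
    generalize D.index = s at he hlt
    have h3 : e ≤ s + 1 := by
      by_contra h4
      have := Nat.mul_le_mul_right s (show s + 2 ≤ e by omega)
      nlinarith
    have h4 : (e - 1) ^ 2 ≤ e * s := by
      rw [sq]; exact Nat.mul_le_mul (by omega) (by omega)
    omega)
  have hN : ∀ g : G, g ∈ normalizer (Q : Set G) := fun g => by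
    obtain ⟨k, hk, e⟩ := hcov g
    obtain ⟨y, hy⟩ := hreg.2 ((g⁻¹ * k) • α)
    have h3 : (⟨(y : G)⁻¹ * (g⁻¹ * k), mul_mem (inv_mem (hQD y.2)) e⟩ : D) ∈ stabilizer D α := by
      change ((y : G)⁻¹ * (g⁻¹ * k)) • α = α
      rw [mul_smul, inv_smul_eq_iff]; exact hy.symm
    have h4 := mem_subgroupOf.1 (hnorm ▸ hf h3)
    have h5 := mul_mem (mem_inf.1 hk).2 (inv_mem (mul_mem (le_normalizer y.2) h4))
    simpa using h5
  refine ⟨⟨Q, normalizer_eq_top_iff.1 (eq_top_iff.2 fun g _ => hN g),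
    ⟨⟨fun a b => Subtype.ext (hab a a.2 b b.2)⟩⟩, fun e => ?_⟩,
    ⟨h, fun e => hhD (e ▸ one_mem D), α, (mem_inf.1 hh).1⟩, fun g hg => ?_⟩
  · obtain ⟨y, hy⟩ := hreg.2 β
    dsimp only at hy
    rw [mem_bot.1 (e ▸ y.2 : (y : G) ∈ (⊥ : Subgroup G)), one_smul] at hy
    exact hβ hy.symm
  · refine Finite.card_le_one_iff_subsingleton.2 ⟨fun a b => Subtype.ext ?_⟩
    obtain ⟨u, hu⟩ := exists_smul_eq G α a
    have h3 : (u⁻¹ * g * u) • α = α := by
      rw [mul_smul, mul_smul, hu, show g • (a : Ω) = a from a.2, inv_smul_eq_iff, hu]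
    rcases fx _ (mem_inf.2 ⟨h3, hN _⟩) (u⁻¹ • (b : Ω)) (by
      rw [mul_smul, smul_inv_smul, mul_smul, show g • (b : Ω) = b from b.2]) with e | e
    · exact absurd (by simpa [mul_assoc, inv_mul_eq_one] using e) hg
    · rw [← hu, ← e, smul_inv_smul]

theorem real_le {s n : ℕ} (h : (s + 1) ^ 2 ≤ n) : (s : ℝ) ≤ Real.sqrt n - 1 := by
  rw [le_sub_iff_add_le]
  exact Real.le_sqrt_of_sq_le (by exact_mod_cast h)

end Cfsg.Agent.DER
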