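import Cfsg.Agent.DER.Str

/-! The commutator pairing. -/

set_option autoImplicit false
set_option linter.unusedSectionVars false

namespace Cfsg.Agent.DER

open Subgroup MulAction
open scoped IsMulCommutative

variable {H : Type*} [Group H] [Finite H] {l : ℕ} [Fact l.Prime] {U : Subgroup H} {z : H}

theorem Sg.comm (hS : Sy l U z) {X : Subgroup H} (hX : Sg l U z X) :
    ∀ a ∈ X, ∀ b ∈ X, a * b = b * a := fun a ha b hb => by
  have := hX.triv _ (mul_mem (mul_mem (mul_mem ha hb) (inv_mem ha)) (inv_mem hb))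
    (hS.com a (hX.le ha) b (hX.le hb))
  rwa [mul_inv_eq_one, mul_inv_eq_iff_eq_mul] at this

namespace PairA

theorem zc (hS : Sy l U z) {c u : H} (hc : c ∈ zpowers z) (hu : u ∈ U) : c * u = u * c := by
  obtain ⟨k, rfl⟩ := mem_zpowers_iff.1 hc
  exact (Commute.zpow_left (hS.cen u hu) k).eq

theorem ml (hS : Sy l U z) {a b u : H} (ha : a ∈ U) (hb : b ∈ U) (hu : u ∈ U) :
    a * b * u * (a * b)⁻¹ * u⁻¹ = a * u * a⁻¹ * u⁻¹ * (b * u * b⁻¹ * u⁻¹) := by
  have k := zc hS (hS.com b hb u hu) ha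
  have k2 := zc hS (hS.com b hb u hu) (mul_mem (mul_mem (mul_mem ha hu) (inv_mem ha)) (inv_mem hu))
  calc a * b * u * (a * b)⁻¹ * u⁻¹ = a * (b * u * b⁻¹ * u⁻¹) * u * a⁻¹ * u⁻¹ := by group
    _ = (b * u * b⁻¹ * u⁻¹) * (a * u * a⁻¹ * u⁻¹) := by rw [← k]; group
    _ = _ := k2

theorem mr (hS : Sy l U z) {a u v : H} (ha : a ∈ U) (hu : u ∈ U) (hv : v ∈ U) :
    a * (u * v) * a⁻¹ * (u * v)⁻¹ = a * u * a⁻¹ * u⁻¹ * (a * v * a⁻¹ * v⁻¹) := by
  have k := zc hS (hS.com a ha v hv) (inv_mem hu)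
  calc a * (u * v) * a⁻¹ * (u * v)⁻¹ = a * u * a⁻¹ * (a * v * a⁻¹ * v⁻¹ * u⁻¹) := by group
    _ = _ := by rw [k]; group

/-- the pairing as a homomorphism -/
def pr (hS : Sy l U z) {X : Subgroup H} (hX : X ≤ U) : U →* (X →* zpowers z) :=
  MonoidHom.mk' (fun u : U => MonoidHom.mk' (fun x : X => ⟨x * u * (x : H)⁻¹ * (u : H)⁻¹, hS.com _ (hX x.2) _ u.2⟩)
    fun a b => Subtype.ext (ml hS (hX a.2) (hX b.2) u.2))
    fun u v => MonoidHom.ext fun x => Subtype.ext (mr hS (hX x.2) u.2 v.2)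

theorem pr_eq (hS : Sy l U z) {X : Subgroup H} (hX : X ≤ U) {u : U} {x : X} :
    pr hS hX u x = 1 ↔ (x : H) * u = u * x := by
  refine Subtype.ext_iff.trans ?_
  change (x : H) * u * (x : H)⁻¹ * (u : H)⁻¹ = 1 ↔ _
  rw [mul_inv_eq_one, mul_inv_eq_iff_eq_mul]

end PairA

open PairA in
theorem pairing (hS : Sy l U z) {X : Subgroup H} (hX : Sg l U z X) :
    Nat.card (U ⊓ centralizer (X : Set H) : Subgroup H) * Nat.card X = Nat.card U := by
  have hZ : Nat.card (zpowers z) = l := by rw [Nat.card_zpowers, hS.ord]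
  have fin : ∀ (A : Type _) [Group A] [Finite A], Finite (A →* zpowers z) := fun A _ _ =>
    Finite.of_injective _ (DFunLike.coe_injective (F := A →* zpowers z))
  set φ := pr hS hX.le with hφ
  have k : φ.ker = (U ⊓ centralizer (X : Set H)).subgroupOf U := by
    ext u
    rw [MonoidHom.mem_ker, mem_subgroupOf, mem_inf, mem_centralizer_iff, MonoidHom.ext_iff]
    exact ⟨fun k => ⟨u.2, fun x hx => (pr_eq hS hX.le).1 (k ⟨x, hx⟩)⟩,
      fun k x => (pr_eq hS hX.le).2 (k.2 x x.2)⟩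
  have c1 : Nat.card φ.range ≤ Nat.card X :=
    haveI := fin X
    (card_le_card_group _).trans (card_hom_le hZ)
  have c2 : Nat.card X ≤ Nat.card φ.range := by
    have := fin X
    have := fin φ.range
    refine le_trans (Nat.card_le_card_of_injective
      (fun x : X => ((MonoidHom.eval x).comp φ.range.subtype : φ.range →* zpowers z)) fun a b e => ?_)
      (card_hom_le hZ)
    have e1 : ∀ u ∈ U, ((a : H) * (b : H)⁻¹) * u = u * ((a : H) * (b : H)⁻¹) := fun u hu => by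
      have e2 : φ ⟨u, hu⟩ a = φ ⟨u, hu⟩ b := DFunLike.congr_fun e ⟨φ ⟨u, hu⟩, ⟨_, rfl⟩⟩
      exact (pr_eq hS hX.le (u := ⟨u, hu⟩) (x := a * b⁻¹)).1 (by
        rw [← hφ, map_mul, map_inv, e2, mul_inv_cancel])
    have m : (a : H) * (b : H)⁻¹ ∈ X := mul_mem a.2 (inv_mem b.2)
    exact Subtype.ext (mul_inv_eq_one.1 (hX.triv _ m (hS.soc _ (hX.le m) e1 (hX.pow _ m))))
  rw [← φ.ker.card_mul_index, index_ker, le_antisymm c1 c2, k,
    Nat.card_congr (subgroupOfEquivOfLe inf_le_left).toEquiv]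

end Cfsg.Agent.DER
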