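import Cfsg.Agent.DER.Defs
import Mathlib.RingTheory.RootsOfUnity.Complex
import Mathlib.LinearAlgebra.Dimension.Constructions

set_option autoImplicit false

namespace Cfsg.Agent.DER

open Subgroup MulAction

variable {H : Type*} [Group H] [Finite H] {l : ℕ} [Fact l.Prime]

theorem card_hom_le' {A Z : Type*} [Group A] [Finite A] [Group Z] (hZ : Nat.card Z = l) :
    Finite (A →* Z) ∧ Nat.card (A →* Z) ≤ Nat.card A := by
  have : NeZero l := ⟨(Fact.out : l.Prime).ne_zero⟩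
  let e : Z ≃* rootsOfUnity l ℂ := mulEquivOfPrimeCardEq hZ (Complex.card_rootsOfUnity l)
  let ι : Z →* ℂ := (Units.coeHom ℂ).comp ((rootsOfUnity l ℂ).subtype.comp e.toMonoidHom)
  have hι : Function.Injective ι := fun a b h =>
    e.injective (Subtype.ext (Units.ext h))
  have hj : Function.Injective fun f : A →* Z => ι.comp f := fun f g h =>
    MonoidHom.ext fun a => hι (DFunLike.congr_fun h a)
  have hli := linearIndependent_monoidHom A ℂ
  have := Fintype.ofFinite A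
  have : Finite (A →* ℂ) := hli.finite
  have := Fintype.ofFinite (A →* ℂ)
  have h1 := hli.fintype_card_le_finrank
  rw [Module.finrank_fintype_fun_eq_card, ← Nat.card_eq_fintype_card,
    ← Nat.card_eq_fintype_card] at h1
  exact ⟨Finite.of_injective _ hj, (Nat.card_le_card_of_injective _ hj).trans h1⟩

/-- there are at most `|A|` homomorphisms from a finite group `A` to a group of prime order -/
theorem card_hom_le {A Z : Type*} [Group A] [Finite A] [CommGroup Z] (hZ : Nat.card Z = l) :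
    Nat.card (A →* Z) ≤ Nat.card A := (card_hom_le' hZ).2

/-- a nontrivial normal subgroup inside an `l`-subgroup `U` has an element of order `l`
centralised by `U` -/
theorem str_fix {U F : Subgroup H} [hF : F.Normal] (hU : IsPGroup l U) (hFU : F ≤ U)
    (h1 : F ≠ ⊥) : ∃ g ∈ F, orderOf g = l ∧ ∀ u ∈ U, g * u = u * g := by
  have hp : l.Prime := Fact.out
  have hFp : IsPGroup l F := hU.to_le hFU
  have hd : ∀ K : Subgroup H, IsPGroup l K → K ≠ ⊥ → l ∣ Nat.card K := fun K hK hK1 => by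
    obtain ⟨n, hn⟩ := hK.exists_card_eq
    rcases n with _ | n
    · exact (hK1 (eq_bot_of_card_eq K (by simpa using hn))).elim
    · rw [hn]; exact dvd_pow_self l (Nat.succ_ne_zero n)
  let _ : MulAction U F :=
    { smul := fun u f => ⟨(u : H) * f * (u : H)⁻¹, hF.conj_mem _ f.2 _⟩
      one_smul := fun f => Subtype.ext (by change ((1 : U) : H) * f * ((1 : U) : H)⁻¹ = f; simp)
      mul_smul := fun a b f => Subtype.ext (by
        change ((a * b : U) : H) * f * ((a * b : U) : H)⁻¹ =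
          (a : H) * ((b : H) * f * (b : H)⁻¹) * (a : H)⁻¹
        simp [mul_assoc]) }
  have hs : ∀ (u : U) (f : F), ((u • f : F) : H) = (u : H) * f * (u : H)⁻¹ := fun _ _ => rfl
  obtain ⟨b, hb, hb1⟩ := hU.exists_fixed_point_of_prime_dvd_card_of_fixed_point F (hd F hFp h1)
    (a := 1) (fun u => Subtype.ext (by rw [hs]; simp))
  have hK : (F ⊓ centralizer (U : Set H) : Subgroup H) ≠ ⊥ := fun e => hb1 (Subtype.ext (by
    have : (b : H) ∈ (F ⊓ centralizer (U : Set H) : Subgroup H) :=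
      mem_inf.2 ⟨b.2, mem_centralizer_iff.2 fun u hu => by
        have := congrArg Subtype.val (hb ⟨u, hu⟩)
        rw [hs] at this
        exact mul_inv_eq_iff_eq_mul.1 this⟩
    rw [e, mem_bot] at this
    exact this.symm))
  obtain ⟨g, hg⟩ := exists_prime_orderOf_dvd_card' l (hd _ (hFp.to_le inf_le_left) hK)
  exact ⟨g, (mem_inf.1 g.2).1, by rw [← hg]; exact orderOf_coe g,
    fun u hu => (mem_centralizer_iff.1 (mem_inf.1 g.2).2 u hu).symm⟩

/-- in a cyclic subgroup the solutions of `c ^ l = 1` are the powers of an element of order `l` -/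
theorem str_cyc {C : Subgroup H} (hC : IsCyclic C) {z : H} (hz : z ∈ C) (ho : orderOf z = l)
    {c : H} (hc : c ∈ C) (h : c ^ l = 1) : c ∈ zpowers z := by
  classical
  have hp : l.Prime := Fact.out
  have := Fintype.ofFinite C
  have h1 := IsCyclic.card_pow_eq_one_le (α := C) hp.pos
  let S : Set H := {x | x ∈ C ∧ x ^ l = 1}
  have h2 : S.ncard ≤ l := by
    refine le_trans ?_ h1
    rw [← Set.ncard_coe_finset, ← Set.ncard_image_of_injective _ Subtype.val_injective]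
    refine Set.ncard_le_ncard fun x hx => ⟨⟨x, hx.1⟩, ?_, rfl⟩
    simp only [Finset.coe_filter, Finset.mem_univ, true_and, Set.mem_ofPred_eq]
    exact Subtype.ext hx.2
  have h3 : (zpowers z : Set H) ⊆ S := by
    rintro _ ⟨k, rfl⟩
    refine ⟨zpow_mem hz k, ?_⟩
    change (z ^ k) ^ l = 1
    rw [← zpow_natCast, ← zpow_mul, mul_comm, zpow_mul, zpow_natCast, ← ho, pow_orderOf_eq_one,
      one_zpow]
  have h4 : (zpowers z : Set H).ncard = l := by
    rw [← ho, ← Nat.card_zpowers]; rfl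
  have h5 := Set.eq_of_subset_of_ncard_le h3 (h4 ▸ h2)
  have : c ∈ S := ⟨hc, h⟩
  rwa [← h5] at this

omit [Finite H] in
/-- commutators centralise a cyclic normal subgroup -/
theorem str_comm {C : Subgroup H} [hn : C.Normal] (hC : IsCyclic C) (a b : H) :
    a * b * a⁻¹ * b⁻¹ ∈ centralizer (C : Set H) := by
  obtain ⟨g, hg⟩ := hC.exists_generator
  have h1 : ∀ h : H, ∃ i : ℤ, h * g * h⁻¹ = (g : H) ^ i := fun h => by
    obtain ⟨i, hi⟩ := hg ⟨h * g * h⁻¹, hn.conj_mem _ g.2 h⟩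
    exact ⟨i, (congrArg Subtype.val hi).symm⟩
  obtain ⟨i, hi⟩ := h1 a⁻¹
  obtain ⟨j, hj⟩ := h1 b⁻¹
  have h2 : a⁻¹ * b⁻¹ * g * (a⁻¹ * b⁻¹)⁻¹ = b⁻¹ * a⁻¹ * g * (b⁻¹ * a⁻¹)⁻¹ := by
    calc a⁻¹ * b⁻¹ * g * (a⁻¹ * b⁻¹)⁻¹ = a⁻¹ * (b⁻¹ * g * b⁻¹⁻¹) * a⁻¹⁻¹ := by group
      _ = (a⁻¹ * g * a⁻¹⁻¹) ^ j := by rw [hj, conj_zpow]
      _ = (b⁻¹ * g * b⁻¹⁻¹) ^ i := by rw [hi, hj, ← zpow_mul, ← zpow_mul, mul_comm]
      _ = b⁻¹ * (a⁻¹ * g * a⁻¹⁻¹) * b⁻¹⁻¹ := by rw [hi, conj_zpow]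
      _ = _ := by group
  have h3 : Commute (g : H) (a * b * a⁻¹ * b⁻¹) := by
    change (g : H) * _ = _ * g
    calc (g : H) * (a * b * a⁻¹ * b⁻¹)
        = a * b * (b⁻¹ * a⁻¹ * g * (b⁻¹ * a⁻¹)⁻¹) * a⁻¹ * b⁻¹ := by group
      _ = a * b * (a⁻¹ * b⁻¹ * g * (a⁻¹ * b⁻¹)⁻¹) * a⁻¹ * b⁻¹ := by rw [h2]
      _ = _ := by group
  refine mem_centralizer_iff.2 fun c hc => ?_
  obtain ⟨k, hk⟩ := hg ⟨c, hc⟩
  have : c = (g : H) ^ k := (congrArg Subtype.val hk).symm
  rw [this]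
  exact (h3.zpow_left k).eq

theorem str {P : Subgroup H} [P.Normal] (hp : IsPGroup l P) (h1 : P ≠ ⊥)
    (hc : ∀ B : Subgroup H, B ≤ P → B.Normal → (∀ a ∈ B, ∀ b ∈ B, a * b = b * a) → IsCyclic B) :
    ∃ (U : Subgroup H) (z : H), U.Normal ∧ U ≤ P ∧ (zpowers z).Normal ∧ Sy l U z ∧
      ∀ h : H, ∀ x ∈ P, h * x * h⁻¹ * x⁻¹ ∈ U := by
  have hl : l.Prime := Fact.out
  have hP : P.Normal := inferInstance
  have hab : ∀ B : Subgroup H, ∀ a ∈ B ⊓ centralizer (B : Set H), ∀ b ∈ B ⊓ centralizer (B : Set H),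
      a * b = b * a := fun B a ha b hb => mem_centralizer_iff.1 (mem_inf.1 hb).2 a (mem_inf.1 ha).1
  obtain ⟨C, ⟨hCP, hCn, hCa⟩, hm⟩ := Set.Finite.exists_maximalFor
    (fun Y : Subgroup H => Nat.card Y)
    {B | B ≤ P ∧ B.Normal ∧ ∀ a ∈ B, ∀ b ∈ B, a * b = b * a} (Set.toFinite _)
    ⟨P ⊓ centralizer (P : Set H), inf_le_left, inferInstance, hab P⟩
  have hCc := hc C hCP hCn hCa
  -- a normal subgroup between `C` and `C_P(C)` has centre `C`
  have hZ : ∀ E : Subgroup H, E.Normal → C ≤ E → E ≤ P → E ≤ centralizer (C : Set H) →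
      ∀ g ∈ E, (∀ e ∈ E, e * g = g * e) → g ∈ C := fun E hE h2 h3 h4 g hg h5 => by
    have hle : C ≤ E ⊓ centralizer (E : Set H) := fun c hcC => mem_inf.2 ⟨h2 hcC,
      mem_centralizer_iff.2 fun e he => (mem_centralizer_iff.1 (h4 he) c hcC).symm⟩
    rw [eq_of_le_of_card_ge hle (hm ⟨inf_le_left.trans h3, inferInstance, hab E⟩
      (card_le_of_le hle))]
    exact mem_inf.2 ⟨hg, mem_centralizer_iff.2 h5⟩
  have hC1 : C ≠ ⊥ := fun e => by
    obtain ⟨g, hg, ho, h2⟩ := str_fix hp le_rfl h1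
    have := hZ P hP hCP le_rfl (fun x _ => mem_centralizer_iff.2 fun c hcC => by
      rw [e, SetLike.mem_coe, mem_bot] at hcC; rw [hcC]; simp) g hg fun u hu => (h2 u hu).symm
    rw [e, mem_bot] at this
    rw [this, orderOf_one] at ho
    exact hl.one_lt.ne ho
  obtain ⟨z, hzC, hzo, -⟩ := str_fix hp hCP hC1
  have hzl : z ^ l = 1 := hzo ▸ pow_orderOf_eq_one z
  have hzle : zpowers z ≤ C := zpowers_le.2 hzC
  have hzn : (zpowers z).Normal := ⟨by
    rintro _ ⟨k, rfl⟩ h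
    change h * z ^ k * h⁻¹ ∈ _
    rw [← conj_zpow]
    exact zpow_mem (str_cyc hCc hzC hzo (hCn.conj_mem z hzC h) (by rw [conj_pow, hzl]; simp)) k⟩
  let U : Subgroup H := P ⊓ centralizer (C : Set H)
  have hUn : U.Normal := inferInstance
  have hCU : C ≤ U := fun c hcC => mem_inf.2 ⟨hCP hcC,
    mem_centralizer_iff.2 fun d hd => hCa d hd c hcC⟩
  have hcen : ∀ c ∈ C, ∀ u ∈ U, c * u = u * c := fun c hcC u hu =>
    mem_centralizer_iff.1 (mem_inf.1 hu).2 c hcC
  let E : Subgroup H :=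
    { carrier := {g | g ∈ U ∧ ∀ u ∈ U, g * u * g⁻¹ * u⁻¹ ∈ zpowers z}
      one_mem' := ⟨one_mem _, fun u _ => by simp⟩
      mul_mem' := fun {a b} ha hb => ⟨mul_mem ha.1 hb.1, fun u hu => by
        have := mul_mem (hzn.conj_mem _ (hb.2 u hu) a) (ha.2 u hu)
        convert this using 1; group⟩
      inv_mem' := fun {a} ha => ⟨inv_mem ha.1, fun u hu => by
        have := hzn.conj_mem _ (inv_mem (ha.2 u hu)) a⁻¹
        convert this using 1; group⟩ }
  have hE : ∀ g, g ∈ E ↔ g ∈ U ∧ ∀ u ∈ U, g * u * g⁻¹ * u⁻¹ ∈ zpowers z := fun _ => Iff.rfl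
  have hEU : E ≤ U := fun g hg => hg.1
  have hEn : E.Normal := ⟨fun g hg h => ⟨hUn.conj_mem _ hg.1 h, fun u hu => by
    have := hzn.conj_mem _ (hg.2 _ (hUn.conj_mem u hu h⁻¹)) h
    convert this using 1; group⟩⟩
  have hCE : C ≤ E := fun c hcC => ⟨hCU hcC, fun u hu => by rw [hcen c hcC u hu]; simp⟩
  let F : Subgroup H := U ⊓ centralizer (E : Set H)
  have hFn : F.Normal := inferInstance
  have hFC : F ≤ C := by
    by_contra hne
    have : (F.map (QuotientGroup.mk' C)).Normal :=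
      hFn.map _ (QuotientGroup.mk'_surjective C)
    obtain ⟨_, ⟨g, hg, rfl⟩, ho, h2⟩ := str_fix (l := l) (U := U.map (QuotientGroup.mk' C))
      (F := F.map (QuotientGroup.mk' C)) ((hp.to_le inf_le_left).map _) (map_mono inf_le_left)
      (fun e => hne (by rwa [Subgroup.map_eq_bot_iff, QuotientGroup.ker_mk'] at e))
    have hgU : g ∈ U := (mem_inf.1 hg).1
    have hgl : g ^ l ∈ C := by
      rw [← QuotientGroup.eq_one_iff, ← QuotientGroup.mk'_apply, map_pow, ← ho, pow_orderOf_eq_one]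
    have hgE : g ∈ E := ⟨hgU, fun u hu => by
      have hw : g * u * g⁻¹ * u⁻¹ ∈ C := by
        rw [← QuotientGroup.eq_one_iff, ← QuotientGroup.mk'_apply]
        simp only [map_mul, map_inv]
        rw [h2 _ ⟨u, hu, rfl⟩]; group
      refine str_cyc hCc hzC hzo hw ?_
      have h3 : ∀ n : ℕ, g ^ n * u * (g ^ n)⁻¹ * u⁻¹ = (g * u * g⁻¹ * u⁻¹) ^ n := fun n => by
        induction n with
        | zero => simp
        | succ n ih =>
          calc g ^ (n + 1) * u * (g ^ (n + 1))⁻¹ * u⁻¹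
              = g * (g ^ n * u * (g ^ n)⁻¹ * u⁻¹) * (u * g⁻¹ * u⁻¹) := by group
            _ = (g * u * g⁻¹ * u⁻¹) ^ n * g * (u * g⁻¹ * u⁻¹) := by
              rw [ih, hcen _ (pow_mem hw n) g hgU]
            _ = _ := by rw [pow_succ]; group
      rw [← h3, hcen _ hgl u hu]; group⟩
    have hgC := hZ E hEn hCE (hEU.trans inf_le_left) (hEU.trans inf_le_right) g hgE
      (mem_centralizer_iff.1 (mem_inf.1 hg).2)
    rw [QuotientGroup.mk'_apply, (QuotientGroup.eq_one_iff g).2 hgC, orderOf_one] at ho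
    exact hl.one_lt.ne ho
  have hUE : U ≤ E := by
    let φ : U → (E ⧸ C.subgroupOf E →* zpowers z) := fun u => QuotientGroup.lift _
      (MonoidHom.mk' (fun e : E => (⟨e * u * (e : H)⁻¹ * (u : H)⁻¹, e.2.2 u u.2⟩ : zpowers z))
        fun a b => Subtype.ext (by
          have h2 := hcen _ (hzle (b.2.2 u u.2))
          change ((a : H) * b) * u * ((a : H) * b)⁻¹ * (u : H)⁻¹ =
            ((a : H) * u * (a : H)⁻¹ * (u : H)⁻¹) * ((b : H) * u * (b : H)⁻¹ * (u : H)⁻¹)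
          rw [← h2 _ (hCU (hzle (a.2.2 u u.2)))]
          calc ((a : H) * b) * u * ((a : H) * b)⁻¹ * (u : H)⁻¹
              = (a : H) * ((b : H) * u * (b : H)⁻¹ * (u : H)⁻¹) * (u * (a : H)⁻¹ * (u : H)⁻¹) := by
                group
            _ = _ := by rw [← h2 _ a.2.1]; group))
      (fun c hcC => Subtype.ext (by
        change (c : H) * u * (c : H)⁻¹ * (u : H)⁻¹ = 1
        rw [hcen _ (mem_subgroupOf.1 hcC) u u.2]; group))
    have hφ : Function.Injective fun q : U ⧸ C.subgroupOf U => φ q.out := fun q q' e => by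
      rw [← q.out_eq, ← q'.out_eq]
      refine QuotientGroup.eq.2 (mem_subgroupOf.2 (hFC (mem_inf.2 ⟨SetLike.coe_mem _,
        mem_centralizer_iff.2 fun x hx => ?_⟩)))
      have h2 : x⁻¹ * (q.out : H) * x⁻¹⁻¹ * (q.out : H)⁻¹ =
          x⁻¹ * (q'.out : H) * x⁻¹⁻¹ * (q'.out : H)⁻¹ := by
        have := congrArg Subtype.val (DFunLike.congr_fun e
          (QuotientGroup.mk (⟨x⁻¹, inv_mem hx⟩ : E) : E ⧸ C.subgroupOf E))
        exact this
      rw [coe_mul, coe_inv]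
      calc x * ((q.out : H)⁻¹ * q'.out)
          = (q.out : H)⁻¹ * x * (x⁻¹ * (q.out : H) * x⁻¹⁻¹ * (q.out : H)⁻¹) * q'.out := by group
        _ = _ := by rw [h2]; group
    obtain ⟨hfin, h2⟩ := card_hom_le' (A := E ⧸ C.subgroupOf E) (Z := zpowers z) (l := l)
      (by rw [Nat.card_zpowers, hzo])
    have h3 : C.relIndex U ≤ C.relIndex E := (Nat.card_le_card_of_injective _ hφ).trans h2
    rw [← relIndex_mul_relIndex C E U hCE hEU] at h3
    have h4 : C.relIndex E ≠ 0 := index_ne_zero_of_finite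
    have h5 : E.relIndex U ≠ 0 := index_ne_zero_of_finite
    have h6 : E.relIndex U ≤ 1 := Nat.le_of_mul_le_mul_left (by simpa using h3) (Nat.pos_of_ne_zero h4)
    exact relIndex_eq_one.1 (by omega)
  refine ⟨U, z, hUn, inf_le_left, hzn, ⟨hCU hzC, hzo, hcen z hzC, fun a ha => (hUE ha).2,
    fun c hcU h2 h3 => str_cyc hCc hzC hzo
      (hZ U hUn hCU inf_le_left inf_le_right c hcU fun e he => (h2 e he).symm) h3⟩,
    fun h x hx => mem_inf.2 ⟨mul_mem (hP.conj_mem x hx h) (inv_mem hx), str_comm hCc h x⟩⟩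

end Cfsg.Agent.DER
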