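import Cfsg.Agent.DER.Cnt
import Cfsg.Agent.DER.Ind
import Mathlib.Data.Set.Card.Arithmetic

/-! Project DER: the case of a normal subgroup of class two with cyclic centre. -/

set_option autoImplicit false

namespace Cfsg.Agent.DER

open Subgroup MulAction

theorem numA33 {o : ℕ} (ho : 1 ≤ o) (N : ℕ) : 2 * o * (N + 2) ≤ (o + 1) ^ (N + 2) := by
  induction N with
  | zero =>
    obtain ⟨k, rfl⟩ := Nat.exists_eq_add_of_le ho
    have : (1 + k + 1) ^ (0 + 2) = 2 * (1 + k) * (0 + 2) + k * k := by ring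
    omega
  | succ N ih =>
    rw [show N + 1 + 2 = N + 2 + 1 from rfl, pow_succ]
    refine le_trans ?_ (Nat.mul_le_mul_right _ ih)
    rw [mul_assoc (2 * o)]
    exact Nat.mul_le_mul_left _ (by nlinarith)

theorem numB33 (o N : ℕ) : 1 + o * N ≤ (o + 1) ^ N := by
  induction N with
  | zero => simp
  | succ N ih => rw [pow_succ]; nlinarith [Nat.zero_le (o * N * o)]

theorem num_odd33 {s l o f b : ℕ} (hl : 3 ≤ l) (ho : l ≤ o) (hf : o + 1 ≤ f)
    (h : s * (l ^ (b + 1) * o) ≤ (∏ j ∈ Finset.range (b + 1), 2 * o * l ^ (j + 1)) * (f - 1)) :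
    (s + 1) ^ 2 ≤ f ^ l ^ (b + 1) := by
  have k1 : ∀ b, ∏ j ∈ Finset.range (b + 1), 2 * o * l ^ (j + 1) =
      l ^ (b + 1) * o * (2 * ∏ j ∈ Finset.range b, 2 * o * l ^ (j + 1)) := fun b => by
    induction b with
    | zero => simp; ring
    | succ b ih =>
      rw [Finset.prod_range_succ _ (b + 1)]
      nth_rewrite 1 [ih]
      rw [Finset.prod_range_succ _ b]; ring
  have k2 : ∀ b, (2 * (∏ j ∈ Finset.range b, 2 * o * l ^ (j + 1)) * f) ^ 2 ≤ f ^ l ^ (b + 1) :=
    fun b => by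
    induction b with
    | zero =>
      refine le_trans ?_ (Nat.pow_le_pow_right (by omega) (show 3 ≤ l ^ (0 + 1) by simpa))
      simp only [Finset.prod_range_zero, mul_one]
      calc (2 * f) ^ 2 = 4 * f ^ 2 := by ring
        _ ≤ f * f ^ 2 := Nat.mul_le_mul_right _ (by omega)
        _ = f ^ 3 := by ring
    | succ b ih =>
      obtain ⟨N, hN⟩ : ∃ N, l ^ (b + 1) = N + 2 :=
        ⟨l ^ (b + 1) - 2, by have := Nat.le_self_pow (n := b + 1) (by omega) l; omega⟩
      have h1 : 2 * o * l ^ (b + 1) ≤ f ^ l ^ (b + 1) := by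
        rw [hN]; exact (numA33 (by omega) N).trans (Nat.pow_le_pow_left hf _)
      calc _ = (2 * (∏ j ∈ Finset.range b, 2 * o * l ^ (j + 1)) * f) ^ 2 *
            (2 * o * l ^ (b + 1)) ^ 2 := by rw [Finset.prod_range_succ]; ring
        _ ≤ f ^ l ^ (b + 1) * (f ^ l ^ (b + 1)) ^ 2 :=
          Nat.mul_le_mul ih (Nat.pow_le_pow_left h1 2)
        _ = f ^ (l ^ (b + 1) * 3) := by ring
        _ ≤ _ := Nat.pow_le_pow_right (by omega) (by
          rw [pow_succ l (b + 1)]; exact Nat.mul_le_mul_left _ hl)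
  have k3 : 0 < ∏ j ∈ Finset.range b, 2 * o * l ^ (j + 1) :=
    Finset.prod_pos fun j _ => Nat.mul_pos (by omega) (pow_pos (by omega) _)
  rw [k1, mul_comm s, mul_assoc (l ^ (b + 1) * o)] at h
  have h2 := Nat.le_of_mul_le_mul_left h (Nat.mul_pos (pow_pos (by omega) _) (by omega))
  refine le_trans (Nat.pow_le_pow_left ?_ 2) (k2 b)
  obtain ⟨g, rfl⟩ : ∃ g, f = g + 1 := ⟨f - 1, by omega⟩
  rw [Nat.add_sub_cancel] at h2
  rw [mul_add]
  omega

theorem num_two33 {s o f b : ℕ} (ho : 2 ≤ o) (hf : o + 1 ≤ f)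
    (h : s * (2 ^ (b + 1) * o) ≤ (∏ j ∈ Finset.range (b + 1), (2 + o * 2 ^ j)) * (f - 1)) :
    (s + 1) ^ 2 ≤ f ^ 2 ^ (b + 1) := by
  have k1 : ∀ b, ∏ j ∈ Finset.range (b + 1), (2 + o * 2 ^ j) ≤
      2 ^ (b + 1) * o * ∏ j ∈ Finset.range b, (1 + o * 2 ^ j) := fun b => by
    induction b with
    | zero => simp; omega
    | succ b ih =>
      rw [Finset.prod_range_succ, Finset.prod_range_succ (fun j => 1 + o * 2 ^ j)]
      exact (Nat.mul_le_mul_right _ ih).trans (le_of_eq (by ring))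
  have k2 : ∀ b, (∏ j ∈ Finset.range b, (1 + o * 2 ^ j)) * (f - 1) + 1 ≤ f ^ 2 ^ b := fun b => by
    induction b with
    | zero => simp; omega
    | succ b ih =>
      have h1 : 1 + o * 2 ^ b ≤ f ^ 2 ^ b := (numB33 o _).trans (Nat.pow_le_pow_left hf _)
      rw [Finset.prod_range_succ, mul_right_comm, pow_succ 2 b, pow_mul, sq]
      generalize (∏ j ∈ Finset.range b, (1 + o * 2 ^ j)) * (f - 1) = X at ih ⊢
      generalize f ^ 2 ^ b = F at ih h1 ⊢
      nlinarith
  have h2 := h.trans (Nat.mul_le_mul_right _ (k1 b))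
  rw [mul_comm s, mul_assoc (2 ^ (b + 1) * o)] at h2
  have h3 := Nat.le_of_mul_le_mul_left h2 (Nat.mul_pos (pow_pos (by omega) _) (by omega))
  rw [pow_succ 2 b, pow_mul]
  exact Nat.pow_le_pow_left ((Nat.add_le_add_right h3 1).trans (k2 b)) 2

theorem orb_le33 {H X : Type*} [Group H] [Finite X] [MulAction H X] {C : Subgroup H} {x : X}
    {T : Set X} (h : ∀ g ∈ C, g • x ∈ T) : (stabilizer H x).relIndex C ≤ T.ncard := by
  have : (stabilizer H x).relIndex C = (stabilizer C x).index := rfl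
  rw [this, index_stabilizer]
  exact Set.ncard_le_ncard (by rintro _ ⟨g, rfl⟩; exact h g g.2)

theorem Sy.pow_comm33 {H : Type*} [Group H] {l : ℕ} {U : Subgroup H} {z : H} (hS : Sy l U z)
    {y u : H} (hy : y ∈ U) (hu : u ∈ U) : y ^ l * u = u * y ^ l := by
  obtain ⟨i, hi⟩ := hS.com y hy u hu
  have c1 : Commute (z ^ i) y := Commute.zpow_left (hS.cen y hy) i
  have e : u⁻¹ * y * u = z ^ i * y := by
    have c2 : Commute (z ^ i) u := Commute.zpow_left (hS.cen u hu) i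
    have e1 : y * u = z ^ i * u * y := by rw [show z ^ i = _ from hi]; group
    rw [mul_assoc, e1, c2.eq]; group
  have e2 : u⁻¹ * y ^ l * u = y ^ l := by
    have := conj_pow (a := u⁻¹) (b := y) (i := l)
    rw [inv_inv] at this
    rw [← this, e, c1.mul_pow, ← zpow_natCast, ← zpow_mul, mul_comm i, zpow_mul, zpow_natCast,
      ← hS.ord, pow_orderOf_eq_one, one_zpow, one_mul]
  rw [← e2]; nth_rewrite 1 [e2]; group

variable {H Q : Type*} [Group H] [Finite H] [CommGroup Q] [Finite Q] [MulDistribMulAction H Q]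

omit [Finite H] [Finite Q] in
theorem MS.sg33 {l : ℕ} {U Y : Subgroup H} {z : H} (hY : MS Q U Y) (hp : IsPGroup l U)
    (hS : Sy l U z) (hz : SR Q (zpowers z)) : Sg l U z Y := by
  obtain ⟨v, hv, h1⟩ := (Fx Q Y).bot_or_exists_ne_one.resolve_left hY.ne
  have k1 : ∀ x ∈ Y, x ∈ zpowers z → x = 1 := fun x hx h => (hz x h v (hv x hx)).resolve_right h1
  have k2 : ∀ k, ∀ c ∈ Y, (∀ u ∈ U, c * u = u * c) → c ^ l ^ k = 1 → c = 1 := fun k => by
    induction k with
    | zero => intro c _ _ h; simpa using h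
    | succ k ih =>
      intro c hc h2 h3
      refine k1 c hc (hS.soc c (hY.le hc) h2 (ih _ (pow_mem hc l)
        (fun u hu => hS.pow_comm33 (hY.le hc) hu) ?_))
      rw [← pow_mul, ← pow_succ', h3]
  refine ⟨hY.le, fun x hx => ?_, k1⟩
  obtain ⟨k, hk⟩ := hp ⟨x ^ l, pow_mem (hY.le hx) l⟩
  exact k2 k _ (pow_mem hx l) (fun u hu => hS.pow_comm33 (hY.le hx) hu) (congrArg Subtype.val hk)

omit [Finite H] [Finite Q] in
theorem cent_smul33 {Y : Subgroup H} {u : H} (hu : u ∈ centralizer (Y : Set H)) {v : Q}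
    (hv : v ∈ Fx Q Y) : u • v ∈ Fx Q Y := fun y hy => by
  rw [← mul_smul, hu y hy, mul_smul, hv y hy]

omit [Finite H] [Finite Q] in
theorem MS.inv33 {U Y : Subgroup H} {z : H} (hY : MS Q U Y) (hS : Sy 2 U z)
    (hz : SR Q (zpowers z)) :
    ∀ u ∈ U ⊓ centralizer (Y : Set H), u * u = 1 → u ∈ Y ∨ u * z ∈ Y := fun u hu h2 => by
  obtain ⟨v, hv, h1⟩ := (Fx Q Y).bot_or_exists_ne_one.resolve_left hY.ne
  have k : ∀ g : H, g * g = 1 → g • (v * g • v) = v * g • v := fun g hg => by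
    rw [smul_mul', ← mul_smul, hg, one_smul, mul_comm]
  have hz1 : z ≠ 1 := fun e => by simpa [e] using hS.ord
  have hz2 : z * z = 1 := by rw [← sq, ← hS.ord, pow_orderOf_eq_one]
  have e1 := (hz z (mem_zpowers z) _ (k z hz2)).resolve_left hz1
  by_cases e2 : v * u • v = 1
  · refine Or.inr (hY.max v hv h1 _ (mul_mem (mem_inf.1 hu).1 hS.mem) ?_)
    rw [mul_smul, eq_inv_of_mul_eq_one_right e1, smul_inv', eq_inv_of_mul_eq_one_right e2, inv_inv]
  · exact Or.inl (hY.max _ (mul_mem hv (cent_smul33 (mem_inf.1 hu).2 hv)) e2 u (mem_inf.1 hu).1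
      (k u h2))

theorem sym {l : ℕ} [Fact l.Prime] {L U : Subgroup H} {z : H} (hL : Fpf Q L) [U.Normal]
    (hUL : U ≤ L) (hp : IsPGroup l U) (hS : Sy l U z) (hz : SR Q (zpowers z)) (hs : ¬ SR Q U) :
    (L.index + 1) ^ 2 ≤ Nat.card Q := by
  classical
  have hl : l.Prime := Fact.out
  obtain ⟨Y, hY, hY1⟩ := exists_MS hs
  have hg := hY.sg33 hp hS hz
  obtain ⟨v, hv, h1⟩ := (Fx Q Y).bot_or_exists_ne_one.resolve_left hY.ne
  obtain ⟨a, ha⟩ := (hp.to_le hY.le).exists_card_eq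
  obtain ⟨b, rfl⟩ : ∃ b, a = b + 1 := Nat.exists_eq_succ_of_ne_zero fun e =>
    hY1 (eq_bot_of_card_eq _ (by rw [ha, e, pow_zero]))
  set C := U ⊓ centralizer (Y : Set H) with hC
  have hYC : Y ≤ C := fun y hy => mem_inf.2 ⟨hY.le hy, fun x hx => hg.comm hS x hx y hy⟩
  have rel : ∀ A B : Subgroup H, A ≤ B → Nat.card A * A.relIndex B = Nat.card B := fun A B h => by
    rw [← Nat.card_congr (subgroupOfEquivOfLe h).toEquiv]; exact card_mul_index _
  set o := Y.relIndex C with ho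
  have hpos := pow_pos hl.pos (b + 1)
  have c1 : Nat.card U = l ^ (2 * (b + 1)) * o := by
    rw [← pairing hS hg, ← rel Y C hYC, ha]; ring
  have c2 : Y.relIndex U = l ^ (b + 1) * o := by
    have := rel Y U hY.le
    rw [c1, ha, two_mul, pow_add l (b + 1), mul_assoc] at this
    exact Nat.eq_of_mul_eq_mul_left hpos this
  have c3 : C.relIndex U = l ^ (b + 1) := by
    have := rel C U inf_le_left
    rw [← pairing hS hg, ha] at this
    exact Nat.eq_of_mul_eq_mul_left Nat.card_pos this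
  have hz1 : z ≠ 1 := fun e => hl.one_lt.ne (by rw [← hS.ord, e, orderOf_one])
  have c4 : l ≤ o := by
    obtain ⟨k, hk⟩ := (hp.to_le (inf_le_left : C ≤ U)).exists_card_eq
    obtain ⟨j, -, hj⟩ := (Nat.dvd_prime_pow hl).1 (hk ▸ relIndex_dvd_card Y C)
    rw [ho, hj]
    refine Nat.le_self_pow (fun e => hz1 (hg.triv z ?_ (mem_zpowers z))) l
    rw [e, pow_zero, relIndex_eq_one] at hj
    exact hj (mem_inf.2 ⟨hS.mem, fun y hy => (hS.cen y (hY.le hy)).symm⟩)
  set f := Nat.card (Fx Q Y) with hf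
  have nc : ∀ F : Subgroup Q, ((F : Set Q) \ {1}).ncard + 1 = Nat.card F := fun F =>
    Set.ncard_sdiff_singleton_add_one F.one_mem
  have ne1 : ∀ g : H, g • v ≠ 1 := fun g e => h1 (by rwa [smul_eq_iff_eq_inv_smul, smul_one] at e)
  have c5 : o + 1 ≤ f := by
    have := orb_le33 (C := C) (x := v) (T := (Fx Q Y : Set Q) \ {1}) fun g hg =>
      ⟨cent_smul33 (mem_inf.1 hg).2 hv, ne1 g⟩
    rw [← inf_relIndex_right, show stabilizer H v ⊓ C = Y from le_antisymm
      (hY.inf_stab hv h1 ▸ inf_le_inf_left _ inf_le_left)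
      (le_inf (fun y hy => hv y hy) hYC)] at this
    have h2 := nc (Fx Q Y)
    omega
  have c6 : f ^ l ^ (b + 1) ≤ Nat.card Q := by
    let _ : MulAction H (Subgroup H) :=
      { smul := cn, one_smul := cn_one, mul_smul := fun g k X => (cn_cn g k X).symm }
    have h2 := orb_le33 (C := U) (x := Y) (T := (fun u => cn u Y) '' U) fun g hg => ⟨g, hg, rfl⟩
    have h3 : stabilizer H Y ⊓ U ≤ C := fun g hg => mem_inf.2 ⟨(mem_inf.1 hg).2, fun y hy => by
      have e : cn g Y = Y := (mem_inf.1 hg).1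
      have h4 : g * y * g⁻¹ ∈ Y := e ▸ mem_cn.2 (by simpa [mul_assoc] using hy)
      have h5 := hg.2
      have h6 := ‹Sg l U z Y›.triv _ (mul_mem h4 (inv_mem hy)) (hS.com g h5 y (hY.le hy))
      rw [mul_inv_eq_one, mul_inv_eq_iff_eq_mul] at h6
      exact h6.symm⟩
    have h4 : l ^ (b + 1) ≤ (stabilizer H Y).relIndex U := by
      rw [← c3, ← inf_relIndex_right (stabilizer H Y)]
      exact relIndex_le_of_le_left h3 index_ne_zero_of_finite
    have h5 := ind (Q := Q) (U := U) (B := U ⊓ centralizer (C : Set H)) inf_le_left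
      (fun x hx y hy => ((mem_inf.1 hx).2 y (mem_inf.2 ⟨(mem_inf.1 hy).1, fun w hw =>
        (mem_inf.1 hy).2 w (hYC hw)⟩)).symm)
      (Set.toFinite ((fun u => cn u Y) '' U)).toFinset (m := Nat.card Y) (f := f) fun Y' hY' => by
        obtain ⟨u, hu, rfl⟩ := (Set.Finite.mem_toFinset _).1 hY'
        refine ⟨fun x hx => mem_inf.2 ⟨(hY.cn u).le hx, fun c hc => ?_⟩, hY.cn u, card_cn u Y,
          card_Fx_cn u Y⟩
        have h6 := mem_cn.1 hx
        obtain ⟨i, hi⟩ := hS.com u hu _ (hY.le h6)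
        have e : x = z ^ i * (u⁻¹ * x * u) := by rw [show z ^ i = _ from hi]; group
        have c2 : Commute (z ^ i) c := Commute.zpow_left (hS.cen c (mem_inf.1 hc).1) i
        have c3 : Commute (u⁻¹ * x * u) c := (mem_inf.1 hc).2 _ h6
        rw [e]; exact (c2.mul_left c3).eq.symm
    rw [← Set.ncard_eq_toFinset_card] at h5
    exact (Nat.pow_le_pow_right (by omega) (h4.trans h2)).trans h5
  set T := (Set.toFinite (Set.range fun h => cn h Y)).toFinset with hT
  have hT' : ∀ Y' ∈ T, ∃ h, cn h Y = Y' := fun Y' hY' => by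
    rwa [hT, Set.Finite.mem_toFinset] at hY'
  have c7 : L.index * (l ^ (b + 1) * o) ≤ T.card * (f - 1) := by
    have h2 := inv_ge hUL (hL.stab_le h1) (T := ⋃ Y' ∈ T, (Fx Q Y' : Set Q) \ {1}) fun g =>
      Set.mem_biUnion ((Set.Finite.mem_toFinset _).2 ⟨g, rfl⟩) ⟨(smul_mem_Fx g).2 hv, ne1 g⟩
    rw [hY.relIndex hv h1, c2] at h2
    refine h2.trans ((Finset.set_ncard_biUnion_le T _).trans ?_)
    refine (Finset.sum_le_card_nsmul _ _ (f - 1) fun Y' hY' => ?_).trans_eq (smul_eq_mul _ _)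
    obtain ⟨h, rfl⟩ := hT' Y' hY'
    have h3 := nc (Fx Q (cn h Y))
    rw [card_Fx_cn] at h3
    omega
  refine le_trans ?_ c6
  rcases hl.eq_two_or_odd' with rfl | hodd
  · refine num_two33 c4 c5 (c7.trans (Nat.mul_le_mul_right _ (cnt_two hS T (fun Y' hY' => ?_) c1)))
    obtain ⟨h, rfl⟩ := hT' Y' hY'
    exact ⟨(hY.cn h).sg33 hp hS hz, (card_cn h Y).trans ha, (hY.cn h).inv33 hS hz⟩
  · refine num_odd33 (by have := hl.two_le; obtain ⟨k, hk⟩ := hodd; omega) c4 c5
      (c7.trans (Nat.mul_le_mul_right _ (cnt_odd hS T (fun Y' hY' => ?_) c1)))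
    obtain ⟨h, rfl⟩ := hT' Y' hY'
    exact ⟨(hY.cn h).sg33 hp hS hz, (card_cn h Y).trans ha⟩

end Cfsg.Agent.DER
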